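import Groth.Agent.Grpsch.PicGrp
import Mathlib.AlgebraicGeometry.Morphisms.FiniteType
import Mathlib.Topology.KrullDimension
import Mathlib.Topology.JacobsonSpace

/-!
# Pull-backs of invertible modules along morphisms with finite image

* `pull_eq_one`: `g^* L` is trivial if the range of `g` lies in a finite set of closed points;
* `isClosed_singleton_of_finite`, `dim_le_zero_of_finite`: finite closed sets in schemes locally of finite type
  over a field.
-/

set_option autoImplicit false
universe u
open CategoryTheory CategoryTheory.Limits AlgebraicGeometry Opposite TopologicalSpace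

namespace K457.PicFin

open Groth.Agent.Grpsch.PicGrp Groth.Agent.Fdesc.LocGen

variable {D X : Scheme.{u}}

theorem subsingleton_bot (M : X.Modules) {U : X.Opens} (hU : U = ⊥) (a b : Γ(M, U)) : a = b := by
  subst hU
  exact res_ext M (ι := Empty) (fun i => i.elim) (fun i => i.elim) bot_le (fun i => i.elim)

/-- If the range of `g` lies in a finite set of closed points, then pull-backs of invertible modules along `g`
are trivial. -/
theorem pull_eq_one (g : D ⟶ X) {T : Set X} (hT : T.Finite) (hc : ∀ x ∈ T, IsClosed ({x} : Set X))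
    (h : ∀ d : D, g d ∈ T) (c : Pic X) : pull g c = 1 := by
  induction c using ind with | _ L hL => ?_
  rw [pull_mk, mk_eq_one_iff]
  have h1 : ∀ t : T, ∃ (V : X.Opens) (e : Γ(L, V)), t.1 ∈ V ∧ IsGen e ∧ ∀ s ∈ T, s ∈ V → s = t.1 := by
    intro t
    obtain ⟨U, e, hx, he⟩ := (isInvertible_iff L).mp hL t.1
    have hcl : IsClosed (T \ {t.1}) := by
      rw [← Set.biUnion_of_singleton (T \ {t.1})]
      exact (hT.subset Set.diff_subset).isClosed_biUnion fun x hx => hc x hx.1
    refine ⟨U ⊓ ⟨(T \ {t.1})ᶜ, hcl.isOpen_compl⟩, res L inf_le_left e, ⟨hx, fun hh => hh.2 rfl⟩, he.res _,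
      fun s hs hsV => ?_⟩
    by_contra hne
    exact hsV.2 ⟨hs, hne⟩
  choose V e hV he hu using h1
  have hcov : (⊤ : D.Opens) ≤ ⨆ t : T, g ⁻¹ᵁ (V t) := fun d _ =>
    Opens.mem_iSup.mpr ⟨⟨g d, h d⟩, hV ⟨g d, h d⟩⟩
  obtain ⟨s, hs⟩ := res_glue ((Scheme.Modules.pullback g).obj L) (fun t : T => g ⁻¹ᵁ (V t)) (fun t => le_top) hcov
    (fun t => pullSec g (e t)) (by
      intro i j
      by_cases hij : i = j
      · subst hij
        rfl
      · refine subsingleton_bot _ ?_ _ _
        rw [eq_bot_iff]
        rintro d ⟨hd1, hd2⟩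
        exact (hij (Subtype.ext ((hu i _ (h d) hd1).symm.trans (hu j _ (h d) hd2)))).elim)
  have hgen : IsGen s := IsGen.of_cover (fun t : T => g ⁻¹ᵁ (V t)) (fun t => le_top) hcov (fun t => by
    rw [hs t]
    exact (he t).pullSec g)
  have : IsIso (homOf s) := by
    rw [isIso_iff_isGen, sec_homOf, res_refl]
    exact hgen
  exact ⟨(asIso (homOf s)).symm⟩

section field

variable {k : Type u} [Field k] [X.Over (Spec (CommRingCat.of k))]
  [LocallyOfFiniteType (X ↘ Spec (CommRingCat.of k))]

variable (k) in
include k in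
theorem discreteTopology_of_finite {T : Set X} (hc : IsClosed T) (hf : T.Finite) : DiscreteTopology T := by
  have : JacobsonSpace X := LocallyOfFiniteType.jacobsonSpace (X ↘ Spec (CommRingCat.of k))
  have : JacobsonSpace T := JacobsonSpace.of_isClosedEmbedding hc.isClosedEmbedding_subtypeVal
  have : Finite T := hf
  infer_instance

variable (k) in
include k in
theorem isClosed_singleton_of_finite {T : Set X} (hc : IsClosed T) (hf : T.Finite) (x : X) (hx : x ∈ T) :
    IsClosed ({x} : Set X) := by
  have := discreteTopology_of_finite k hc hf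
  have h1 := hc.isClosedEmbedding_subtypeVal.isClosedMap ({(⟨x, hx⟩ : T)} : Set T) (isClosed_discrete _)
  rwa [Set.image_singleton] at h1

variable (k) in
include k in
theorem dim_le_zero_of_finite {T : Set X} (hc : IsClosed T) (hf : T.Finite) : topologicalKrullDim T ≤ 0 := by
  have := discreteTopology_of_finite k hc hf
  exact topologicalKrullDim_zero_of_discreteTopology T

end field

end K457.PicFin
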