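import Groth.Agent.Surf.K464.Comp
import Groth.Agent.Surf.K457.PicFin

/-!
# Total transforms and contracted curves

* `pull_ic`: `f^* [I_D] = [I_{f^{-1}D}]`;
* `degOn_pull_eq_zero`: `(C · f^*n) = 0` for `C` mapped into a finite set of closed points;
* `eq_of_stalk_gp`: effective Cartier divisors on a regular surface agreeing at the generic points of all curves
  are equal.
-/

set_option autoImplicit false
universe u
open CategoryTheory CategoryTheory.Limits AlgebraicGeometry TopologicalSpace

namespace K457.Total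

open Groth.Agent Groth.Agent.Grpsch.PicGrp Groth.Agent.Divis.CartierBasic Groth.Agent.Dix.IdealModCartier
  K464.Base K464.Curves K464.DivLat

theorem pull_ic {X Y : Scheme.{u}} (f : Y ⟶ X) {D : X.IdealSheafData} (hD : BlowUp.IsEffCartierIdeal D)
    (hD' : BlowUp.IsEffCartierIdeal (D.comap f)) : pull f (ic D hD) = ic (D.comap f) hD' := by
  unfold ic
  rw [pull_mk]
  obtain ⟨e⟩ := pullback_idealMod f hD hD'
  exact mk_congr e

theorem degOn_pull_eq_zero (k : Type u) [Field k] {X Y : Scheme.{u}} [Y.Over (Spec (CommRingCat.of k))]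
    (f : Y ⟶ X) (C : Y.IdealSheafData) {T : Set X} (hT : T.Finite) (hc : ∀ x ∈ T, IsClosed ({x} : Set X))
    (h : ∀ y ∈ C.support, f y ∈ T) (n : Pic X) : degOn k Y C (pull f n) = 0 := by
  have h1 : pull (C.subschemeι ≫ f) n = 1 := K457.PicFin.pull_eq_one _ hT hc (fun d => by
    refine h _ ?_
    have : C.subschemeι d ∈ Set.range C.subschemeι := ⟨d, rfl⟩
    rw [C.range_subschemeι] at this
    exact this) n
  obtain ⟨L, hL, rfl⟩ := exists_mk n
  rw [pull_comp, pull_mk, pull_mk, mk_eq_one_iff] at h1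
  obtain ⟨e⟩ := h1
  rw [pull_mk f hL, degOn_mk, euler_quotMod_tensor_sub k Y C (Fdesc.LocGen.isInvertible_pullback f hL),
    euler_quotMod_sub, sub_eq_zero]
  letI := overC k Y C
  exact K464.Base.euler_congr k C.subscheme e

variable {k : Type u} [Field k] {X : Scheme.{u}}

theorem eq_of_stalk_gp (f : X ⟶ Spec (CommRingCat.of k)) [LocallyOfFiniteType f] [IsIntegral X] [IsNoetherian X]
    (hdim : topologicalKrullDim X = 2) (hreg : ∀ x : X, IsRegularLocalRing (X.presheaf.stalk x))
    {J J' : X.IdealSheafData} (hJ : BlowUp.IsEffCartierIdeal J) (hJ' : BlowUp.IsEffCartierIdeal J')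
    (h : ∀ (C : X.IdealSheafData) (hC : IsCurve C), stalkIdeal J (gp hC) = stalkIdeal J' (gp hC)) : J = J' := by
  obtain ⟨r, C, n, hC, hinj, -, hJC⟩ := K464.Comp.exists_eq_cyc k f hdim hreg J hJ
  have hE : ∀ i, BlowUp.IsEffCartierIdeal (C i) := fun i => isEff_of_isCurve k f hdim hreg (hC i)
  obtain ⟨n', K, hK, hJK, hgp⟩ := exists_split hC hE hJ'
  have hnn : n = n' := by
    funext i
    have h1 := h (C i) (hC i)
    rw [hJC, hJK, stalkIdeal_mul, stalkIdeal_cyc (fun j hj => gp_notMem_of_ne hC hinj hj),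
      stalkIdeal_cyc (fun j hj => gp_notMem_of_ne hC hinj hj), stalkIdeal_eq_top (hgp i), Ideal.mul_top] at h1
    obtain ⟨g, hg, hgC⟩ := (isEffCartierIdeal_iff_stalkIdeal (C i)).mp (hE i) (gp (hC i))
    have hg1 : ¬ IsUnit g := by
      intro hu
      have := (mem_support_iff_stalkIdeal_ne_top (C i) _).mp (gp_mem (hC i))
      exact this (by rw [hgC]; exact Ideal.span_singleton_eq_top.mpr hu)
    rw [hgC] at h1
    exact le_antisymm (le_of_pow_le_pow hg hg1 h1.ge) (le_of_pow_le_pow hg hg1 h1.le)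
  by_cases hKt : K = ⊤
  · rw [hJC, hJK, hKt, hnn, ← Scheme.IdealSheafData.one_eq_top, mul_one]
  · exfalso
    have hne : (K.support : Set X).Nonempty := by
      by_contra hemp
      apply hKt
      rw [← Scheme.IdealSheafData.support_eq_bot_iff]
      apply SetLike.coe_injective
      rw [Set.not_nonempty_iff_eq_empty.1 hemp]
      rfl
    obtain ⟨x, hx⟩ := hne
    obtain ⟨E, hE', hKE, -⟩ := K464.Comp.exists_curve_le f hdim hK x hx
    have hgE : gp hE' ∈ K.support := (le_iff_gp_mem hE' K).mp hKE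
    have hEC : ∀ i, E ≠ C i := fun i hEi => by
      subst hEi
      exact hgp i hgE
    have h1 := h E hE'
    have h2 : stalkIdeal (cyc C n) (gp hE') = ⊤ := by
      unfold cyc
      rw [stalkIdeal_prod, Finset.prod_eq_one, Ideal.one_eq_top]
      intro i _
      rw [stalkIdeal_pow, stalkIdeal_eq_top (gp_notMem hE' (hC i) (hEC i)), Ideal.top_pow, Ideal.one_eq_top]
    rw [hJC, hJK, ← hnn, stalkIdeal_mul, h2, Ideal.top_mul] at h1
    exact (mem_support_iff_stalkIdeal_ne_top K _).mp hgE h1.symm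

end K457.Total
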