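import Groth.Agent.Surf.K457.BlowPt
import Groth.Agent.Surf.K457.Total
import Groth.Agent.Divis.CartierStalk
import Groth.Agent.S7928
import Groth.Agent.S1680

/-!
# Strict transform of a curve under a point blow-up: `f⁻¹(C) = E^m · C'`, `m` the multiplicity
-/

set_option autoImplicit false
set_option linter.unusedSectionVars false
universe u
open CategoryTheory CategoryTheory.Limits AlgebraicGeometry TopologicalSpace

namespace K457.BlowMult

open Groth.Agent Groth.Agent.Grpsch.PicGrp Groth.Agent.Divis.CartierBasic Groth.Agent.Dix.PointIdeal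
  K464.Base K464.Curves K464.DivLat

theorem stalkIdeal_generic {X C : Scheme.{u}} [IsIntegral C] (i : C ⟶ X) [IsClosedImmersion i] :
    stalkIdeal i.ker (i (genericPoint C)) = IsLocalRing.maximalIdeal (X.presheaf.stalk (i (genericPoint C))) := by
  rw [← Divis.CartierStalk.ker_stalkMap i (genericPoint C)]
  refine IsLocalRing.eq_maximalIdeal ?_
  have h1 : Function.Surjective (i.stalkMap (genericPoint C)).hom := i.stalkMap_surjective _
  exact RingHom.ker_isMaximal_of_surjective (K := C.functionField) (i.stalkMap (genericPoint C)).hom h1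

theorem stalkIdeal_gp {X : Scheme.{u}} {C : X.IdealSheafData} (hC : IsCurve C) :
    stalkIdeal C (gp hC) = IsLocalRing.maximalIdeal (X.presheaf.stalk (gp hC)) := by
  have := hC.integral
  have h := stalkIdeal_generic C.subschemeι
  rw [Scheme.IdealSheafData.ker_subschemeι] at h
  exact h

theorem gp_eq {X C : Scheme.{u}} [IsIntegral C] (i : C ⟶ X) [IsClosedImmersion i] (hC : IsCurve i.ker) :
    gp hC = i (genericPoint C) := by
  have h1 : closure {i (genericPoint C)} = (i.ker.support : Set X) := by
    have h1 : closure {genericPoint C} = (Set.univ : Set C) := genericPoint_spec _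
    have h2 := i.isClosedEmbedding.isClosedMap.closure_image_eq_of_continuous i.continuous {genericPoint C}
    rw [Set.image_singleton, h1, Set.image_univ] at h2
    rw [h2, Scheme.Hom.support_ker]
    exact i.isClosedEmbedding.isClosed_range.closure_eq.symm
  have h2 := closure_gp hC
  exact (inseparable_iff_closure_eq.mpr (h2.trans h1.symm)).eq

/-- Being a curve for the kernel of a closed immersion of an integral one-dimensional scheme. -/
theorem isCurve_ker {X C : Scheme.{u}} [IsIntegral C] (i : C ⟶ X) [IsClosedImmersion i]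
    (hC : topologicalKrullDim C = 1) : IsCurve i.ker := by
  have e : C ≅ i.ker.subscheme := asIso i.toImage
  have : Nonempty i.ker.subscheme := ⟨e.hom (genericPoint C)⟩
  refine ⟨isIntegral_of_isOpenImmersion e.inv, ?_⟩
  rw [← K464.Curves.dim_sub, ← IsHomeomorph.topologicalKrullDim_eq _ (Scheme.homeoOfIso e).isHomeomorph, hC]

variable (k : Type u) [Field k] [IsAlgClosed k] {X X' : Scheme.{u}} [X.Over (Spec (CommRingCat.of k))]
  [X'.Over (Spec (CommRingCat.of k))] [IsIntegral X] [IsProper (X ↘ Spec (CommRingCat.of k))]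
  (hdim : topologicalKrullDim X = 2) (hreg : ∀ x : X, IsRegularLocalRing (X.presheaf.stalk x))
  (P : X) (hP : IsClosed ({P} : Set X)) (f : X' ⟶ X) (hf : BlowUp.IsBlowUp f (pt P hP))
  (hover : f ≫ (X ↘ Spec (CommRingCat.of k)) = X' ↘ Spec (CommRingCat.of k))

theorem mem_exc_iff (y : X') : y ∈ ((pt P hP).comap f).support ↔ f y = P := by
  rw [Scheme.IdealSheafData.support_comap]
  exact mem_support_pt P hP (f y)

include hf in
theorem isIso_stalkMap [IsLocallyNoetherian X] (y : X') (hy : f y ≠ P) : IsIso (f.stalkMap y) := by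
  have hiso := K455.BlowDim.isIso_restrict f P hP hf
  exact K457.BirNormal.isIso_stalkMap_of_restrict f (K455.BlowDim.compl P hP) y hy

include hf in
theorem injOn [IsLocallyNoetherian X] {y y' : X'} (hy : f y ≠ P) (h : f y = f y') : y = y' := by
  have hiso := K455.BlowDim.isIso_restrict f P hP hf
  exact Vancyc.H175.DimBir.injOn_of_isIso f (K455.BlowDim.compl P hP) hy h

include k hdim hreg hf hover in
/-- Off `P`, a curve of `X'` whose generic point lies over `C` is the strict transform of `C`. -/
theorem eq_of_mem {C : X.IdealSheafData} (hC : IsCurve C) {C' D : X'.IdealSheafData} (hC' : IsCurve C')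
    (hD : IsCurve D) (hCP : f (gp hC') = gp hC) (hDP : f (gp hD) ≠ P) (h : f (gp hD) ∈ C.support) : D = C' := by
  obtain ⟨hI', hP', hd', hr'⟩ := K457.BlowPt.surf k hdim hreg P hP f hf hover
  have hN : IsNoetherian X := Fga.IntAdd.isNoetherian k X
  have h1 : f (gp hD) = gp hC := by
    by_contra hne
    have hsp : gp hC ⤳ f (gp hD) := by
      rw [specializes_iff_mem_closure, closure_gp hC]
      exact h
    have hgC : gp hC ≠ genericPoint X := by
      intro hg
      have h2 := ringKrullDim_gp k (X ↘ Spec (CommRingCat.of k)) hdim hC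
      have h3 : Order.coheight (gp hC) = 0 := by
        rw [hg, Order.coheight_eq_zero]
        intro b _
        exact genericPoint_specializes b
      rw [ringKrullDim_stalk_eq_coheight, h3] at h2
      exact absurd h2 (by decide)
    have h4 := Dix.BlowIrr.coheight_two (genericPoint_specializes (gp hC)) hsp hgC hne
    have h5 := ringKrullDim_gp k (X' ↘ Spec (CommRingCat.of k)) hd' hD
    have h6 := isIso_stalkMap P hP f hf (gp hD) hDP
    have h7 : ringKrullDim (X.presheaf.stalk (f (gp hD))) = ringKrullDim (X'.presheaf.stalk (gp hD)) :=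
      ringKrullDim_eq_of_ringEquiv (asIso (f.stalkMap (gp hD))).commRingCatIsoToRingEquiv
    rw [h5, ringKrullDim_stalk_eq_coheight] at h7
    have h8 : Order.coheight (f (gp hD)) = 1 := by exact_mod_cast h7
    rw [h8] at h4
    exact absurd h4 (by decide)
  have h2 : gp hD = gp hC' := injOn P hP f hf hDP (h1.trans hCP.symm)
  exact eq_of_gp_mem hD hC' (h2 ▸ gp_mem hC')

include k hdim hreg hf hover in
theorem comap_eq {C : X.IdealSheafData} (hC : IsCurve C) {C' : X'.IdealSheafData} (hC' : IsCurve C')
    (hE : BlowUp.IsEffCartierIdeal ((pt P hP).comap f)) (hEC : BlowUp.IsEffCartierIdeal C)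
    (hEC' : BlowUp.IsEffCartierIdeal C') (hCP : f (gp hC') = gp hC) :
    BlowUp.IsEffCartierIdeal (C.comap f) ∧ ∃ n, C.comap f = ((pt P hP).comap f) ^ n * C' := by
  obtain ⟨hI', hP', hd', hr'⟩ := K457.BlowPt.surf k hdim hreg P hP f hf hover
  have hN : IsNoetherian X := Fga.IntAdd.isNoetherian k X
  have hN' : IsNoetherian X' := Fga.IntAdd.isNoetherian k X'
  obtain ⟨hEc, -⟩ := K457.BlowPt.exists_iso k hdim hreg P hP f hf hover
  -- the generic point of `X`
  have hgX : genericPoint X ≠ P := Dix.HasBlow.genericPoint_ne P (K457.BlowPt.ringKrullDim_stalk k hdim P hP)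
  have hiso := K455.BlowDim.isIso_restrict f P hP hf
  have hgen : f (genericPoint X') = genericPoint X :=
    Vancyc.H175.DimBir.map_genericPoint f (K455.BlowDim.compl P hP) hgX
  have hCgen : genericPoint X ∉ C.support := by
    rw [notMem_support_iff_stalkIdeal_eq_top]
    obtain ⟨g, hg, hDg⟩ := (isEffCartierIdeal_iff_stalkIdeal C).mp hEC (genericPoint X)
    rw [hDg, Ideal.span_singleton_eq_top]
    have hg0 : (g : X.functionField) ≠ 0 := nonZeroDivisors.ne_zero hg
    exact IsUnit.mk0 (G₀ := X.functionField) g hg0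
  have hT : BlowUp.IsEffCartierIdeal (C.comap f) :=
    Dix.InterSurf.isEff_comap_of_generic f hEC (by rw [hgen]; exact hCgen)
  refine ⟨hT, ?_⟩
  obtain ⟨n, J, hJ, hTJ, hgp⟩ := exists_split (C := fun _ : Unit => (pt P hP).comap f) (fun _ => hEc) (fun _ => hE) hT
  have hcyc : cyc (fun _ : Unit => (pt P hP).comap f) n = ((pt P hP).comap f) ^ n () := by
    unfold cyc
    simp
  rw [hcyc] at hTJ
  refine ⟨n (), ?_⟩
  rw [hTJ]
  congr 1
  -- `J = C'`
  have hgE : ∀ hD : IsCurve ((pt P hP).comap f), f (gp hD) = P := fun hD =>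
    (mem_exc_iff P hP f _).mp (gp_mem hD)
  have hCne : gp hC ≠ P := by
    intro h
    have h1 := ringKrullDim_gp k (X ↘ Spec (CommRingCat.of k)) hdim hC
    rw [h, K457.BlowPt.ringKrullDim_stalk k hdim P hP] at h1
    exact absurd h1 (by decide)
  refine K457.Total.eq_of_stalk_gp (X' ↘ Spec (CommRingCat.of k)) hd' hr' hJ hEC' fun D hD => ?_
  by_cases hDE : D = (pt P hP).comap f
  · subst hDE
    rw [stalkIdeal_eq_top (hgp ()), stalkIdeal_eq_top]
    intro hmem
    have := eq_of_gp_mem hD hC' hmem
    have h1 : f (gp hC') = P := (mem_exc_iff P hP f _).mp (by rw [this]; exact gp_mem hC')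
    exact hCne (hCP.symm.trans h1)
  · have hDP : f (gp hD) ≠ P := fun h => gp_notMem hD hEc hDE ((mem_exc_iff P hP f _).mpr h)
    have h1 : stalkIdeal J (gp hD) = stalkIdeal (C.comap f) (gp hD) := by
      rw [hTJ, stalkIdeal_mul, stalkIdeal_pow, stalkIdeal_eq_top (gp_notMem hD hEc hDE), Ideal.top_pow,
        Ideal.top_mul]
    rw [h1, Divis.CartierStalk.stalkIdeal_comap]
    by_cases hDC : D = C'
    · subst hDC
      have h2 : ∀ y : X, y = gp hC → stalkIdeal C y = IsLocalRing.maximalIdeal _ := fun y hy => by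
        subst hy
        exact stalkIdeal_gp hC
      rw [h2 _ hCP, stalkIdeal_gp hD]
      have h3 := isIso_stalkMap P hP f hf (gp hD) hDP
      have h4 := IsLocalRing.map_ringEquiv_maximalIdeal (asIso (f.stalkMap (gp hD))).commRingCatIsoToRingEquiv
      exact h4
    · have h2 : f (gp hD) ∉ C.support := fun h => hDC (eq_of_mem k hdim hreg P hP f hf hover hC hC' hD hCP hDP h)
      rw [(notMem_support_iff_stalkIdeal_eq_top _ _).mp h2, Ideal.map_top,
        stalkIdeal_eq_top (gp_notMem hD hC' hDC)]

end K457.BlowMult
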