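import Groth.Agent.Surf.K457.Form
import Groth.Agent.Surf.K457.PicFin
import Groth.Agent.Vancyc.H175.Bir
import Groth.Agent.Vancyc.H175.FibSupp
import Groth.Agent.Fga.UnitRestrict
import Groth.Agent.Ega2.QCohLocal
import Groth.Agent.CycB.DegSky
import Groth.Agent.S1558

/-!
# Euler characteristics and the intersection form under proper birational maps of surfaces

`h : Y ⟶ X` a morphism of proper `k`-schemes.
* `euler_pull_sub`: if the fibres of `h` outside a finite closed set are finite,
  `χ(Y, F ⊗ h^*L) - χ(Y, F ⊗ h^*M) = χ(X, h_* F ⊗ L) - χ(X, h_* F ⊗ M)`;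
* `chi_pull_sub`: `χ(h^*c) - χ(O_Y) = χ(c) - χ(O_X)` if moreover `h_* O_Y = O_X`;
* `B_pull`: `(h^*a · h^*b) = (a · b)` if `X` is irreducible and `h` is an isomorphism over a nonempty open.
-/

set_option autoImplicit false
universe u
open CategoryTheory CategoryTheory.Limits AlgebraicGeometry TopologicalSpace

namespace K457.Bir

open Groth.Agent Groth.Agent.Vancyc.H175 Groth.Agent.Vancyc.H175.Leray Groth.Agent.Grpsch.PicGrp K457.Form
  K457.PicFin Groth.Agent.Fga.ChiBasic Groth.Agent.Ega2.QCohLocal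

variable (k : Type u) [Field k]

theorem euler_congr (k : Type u) [Field k] {X : Scheme.{u}} [X.Over (Spec (CommRingCat.of k))]
    {M N : X.Modules} (e : M ≅ N) : Curv2.euler k X M = Curv2.euler k X N := by
  unfold Curv2.euler
  refine finsum_congr fun i => ?_
  rw [(Fga.PicMon.hmapEquiv k X e i).finrank_eq]

section push

variable {X Y : Scheme.{u}} [X.Over (Spec (CommRingCat.of k))] [Y.Over (Spec (CommRingCat.of k))]
  [IsProper (X ↘ (Spec (CommRingCat.of k)))] [IsProper (Y ↘ (Spec (CommRingCat.of k)))]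
  (h : Y ⟶ X) (hh : h ≫ (X ↘ (Spec (CommRingCat.of k))) = Y ↘ (Spec (CommRingCat.of k)))

include hh in
theorem euler_pull_sub {F : Y.Modules} (hF : Coh.IsCoh F) {T : Set X} (hc : IsClosed T) (hf : T.Finite)
    (hT : ∀ z ∉ T, (h.base ⁻¹' {z}).Finite) {L M : X.Modules} (hL : PicF.IsInvertible L) (hM : PicF.IsInvertible M) :
    Curv2.euler k Y (CohB1.tensorMod F ((Scheme.Modules.pullback h).obj L)) -
      Curv2.euler k Y (CohB1.tensorMod F ((Scheme.Modules.pullback h).obj M)) =
    Curv2.euler k X (CohB1.tensorMod ((Coh.push h).obj F) L) -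
      Curv2.euler k X (CohB1.tensorMod ((Coh.push h).obj F) M) := by
  have := hasInjectiveResolutions Y
  have := isProper_of_over k h hh
  have := isNoetherian k X
  obtain ⟨N, hN⟩ := exists_euler_pull k h hh hF
  have hL1 := isFinLocFreeOfRank_one_iff.mpr hL
  have hM1 := isFinLocFreeOfRank_one_iff.mpr hM
  rw [hN L (isFinLocFree_of_rank hL1), hN M (isFinLocFree_of_rank hM1), ← Finset.sum_sub_distrib]
  rw [Finset.sum_eq_single_of_mem 0 (Finset.mem_range.mpr (Nat.succ_pos N))]
  · have e0 : (Coh.Rpush h 0).obj F ≅ (Coh.push h).obj F :=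
      (Scheme.Modules.pushforward h).rightDerivedZeroIsoSelf.app F
    rw [pow_zero, one_mul, one_mul, euler_congr k (Ega2.Tens.mapTIso e0 (Iso.refl L)),
      euler_congr k (Ega2.Tens.mapTIso e0 (Iso.refl M))]
  · intro q _ hq
    have hcoh := isCoh_rpush k h hh hF q
    have hsub := FibSupp.support_rpush_subset h hF q (Nat.pos_of_ne_zero hq) T hT
    have hdim : topologicalKrullDim (CohB1.support ((Coh.Rpush h q).obj F)) ≤ 0 :=
      CycB.DegSky.dim_support_le_zero (hf.subset hsub)
        (fun x hx => isClosed_singleton_of_finite k hc hf x (hsub hx))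
    rw [S1558.result k X _ hcoh hdim 1 L hL1, S1558.result k X _ hcoh hdim 1 M hM1, sub_self]

include hh in
/-- `χ(h^*c) - χ(O_Y) = χ(c) - χ(O_X)`. -/
theorem chi_pull_sub (hdX : topologicalKrullDim X ≤ 2) (hdY : topologicalKrullDim Y ≤ 2)
    {T : Set X} (hc : IsClosed T) (hf : T.Finite) (hT : ∀ z ∉ T, (h.base ⁻¹' {z}).Finite)
    (hO : ∀ U : X.Opens, Function.Bijective (h.app U)) (c : Pic X) :
    chi k Y (pull h c) - chi k Y 1 = chi k X c - chi k X 1 := by
  obtain ⟨L, hL, rfl⟩ := exists_mk c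
  have hO1 : PicF.IsInvertible (Coh.structureModule X) := Fdesc.LocGen.isInvertible_structureModule
  have hOY : Coh.IsCoh (Coh.structureModule Y) := by
    have := isNoetherian k Y
    exact CurvesC.UnitCoh.isCoh_unit Y
  have key := euler_pull_sub k h hh hOY hc hf hT hL hO1
  have e1 : Coh.structureModule X ≅ (Coh.push h).obj (Coh.structureModule Y) :=
    @asIso _ _ _ _ _ (Fga.UnitRestrict.isIso_unitToPush h hO)
  have e2 : (Scheme.Modules.pullback h).obj (Coh.structureModule X) ≅ Coh.structureModule Y :=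
    (@asIso _ _ _ _ _ (isIso_pullOne h)).symm
  rw [euler_congr k (Ega2.Tens.lunit ((Scheme.Modules.pullback h).obj L)),
    euler_congr k (Ega2.Tens.lunit ((Scheme.Modules.pullback h).obj (Coh.structureModule X)) ≪≫ e2),
    euler_congr k (Ega2.Tens.mapTIso e1.symm (Iso.refl L) ≪≫ Ega2.Tens.lunit L),
    euler_congr k (Ega2.Tens.mapTIso e1.symm (Iso.refl (Coh.structureModule X)) ≪≫ Ega2.Tens.lunit _)] at key
  rw [pull_mk, chi_mk hdY, chi_mk hdX, chi_one hdY, chi_one hdX]
  exact key

omit [IsProper (X ↘ (Spec (CommRingCat.of k)))] in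
theorem intNum_two' (A C F : X.Modules) :
    FGA.intNum k X 2 ![A, C] F =
      FGA.eulerCharLE k X (CohB1.tensorMod (Coh.structureModule X) F) 2 -
      FGA.eulerCharLE k X (CohB1.tensorMod A F) 2 - FGA.eulerCharLE k X (CohB1.tensorMod C F) 2 +
      FGA.eulerCharLE k X (CohB1.tensorMod (CohB1.tensorMod A C) F) 2 := by
  have h2 : (fun i => Fga.PicMon.mc ((![A, C] : Fin 2 → X.Modules) i)) = ![Fga.PicMon.mc A, Fga.PicMon.mc C] := by
    funext i
    fin_cases i <;> rfl
  rw [Fga.PicMon.intNum_eq_dSum, h2, Fga.HodgeIneq.dSum_two]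
  rfl

include hh in
/-- Birational invariance of the intersection number. -/
theorem B_pull [IrreducibleSpace X] (hdX : topologicalKrullDim X ≤ 2) (hdY : topologicalKrullDim Y ≤ 2)
    (U : X.Opens) (hU : (U : Set X).Nonempty) [IsIso (h ∣_ U)] (a b : Pic X) :
    B k Y (pull h a) (pull h b) = B k X a b := by
  have := hasInjectiveResolutions Y
  have hhp := isProper_of_over k h hh
  have hNX := isNoetherian k X
  have hNY := isNoetherian k Y
  obtain ⟨A, hA, rfl⟩ := exists_mk a
  obtain ⟨C, hC, rfl⟩ := exists_mk b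
  have hAC := Fdesc.LocGen.isInvertible_tensorMod hA hC
  have hO1 : PicF.IsInvertible (Coh.structureModule X) := Fdesc.LocGen.isInvertible_structureModule
  have hOX : Coh.IsCoh (Coh.structureModule X) := CurvesC.UnitCoh.isCoh_unit X
  have hOY : Coh.IsCoh (Coh.structureModule Y) := CurvesC.UnitCoh.isCoh_unit Y
  have hd : topologicalKrullDim X ≤ (2 : ℕ) := by exact_mod_cast hdX
  have hM : ∀ i, PicF.IsInvertible ((![A, C] : Fin 2 → X.Modules) i) := fun i => by
    fin_cases i
    · exact hA
    · exact hC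
  have hT : topologicalKrullDim ((U : Set X)ᶜ : Set X) < (2 : ℕ) := by
    refine Fga.DimLt.topologicalKrullDim_lt (IrreducibleSpace.isIrreducible_univ X) U.2.isClosed_compl
      (Set.subset_univ _) ?_ ?_
    · intro h
      obtain ⟨x, hx⟩ := hU
      have : x ∈ U.carrierᶜ := by rw [h]; trivial
      exact this hx
    · have h1 : topologicalKrullDim (Set.univ : Set X) ≤ topologicalKrullDim X :=
        (Homeomorph.Set.univ X).isInducing.topologicalKrullDim_le
      refine lt_of_le_of_lt (h1.trans hd) ?_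
      exact_mod_cast Nat.lt_succ_self 2
  have hfin : ∀ z ∉ (U : Set X)ᶜ, (h.base ⁻¹' {z}).Finite := by
    intro z hz
    have hzU : z ∈ U := by
      by_contra h
      exact hz h
    refine Set.Subsingleton.finite fun a ha b hb => ?_
    have ha' : h a = z := ha
    have hb' : h b = z := hb
    exact DimBir.injOn_of_isIso h U (ha' ▸ hzU) (ha'.trans hb'.symm)
  obtain ⟨N, hN⟩ := exists_euler_pull k h hh hOY
  have hval : ∀ {E : X.Modules} (hE : PicF.IsInvertible E),
      chi k Y (pull h (mk E hE)) = ∑ q ∈ Finset.range (N + 1), (-1 : ℤ) ^ q *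
        FGA.eulerCharLE k X (CohB1.tensorMod E ((Coh.Rpush h q).obj (Coh.structureModule Y))) 2 := by
    intro E hE
    rw [pull_mk, chi_mk hdY, ← euler_congr k (Ega2.Tens.lunit ((Scheme.Modules.pullback h).obj E)),
      hN E (isFinLocFree_of_rank (isFinLocFreeOfRank_one_iff.mpr hE))]
    refine Finset.sum_congr rfl fun q _ => ?_
    rw [Fga.EulerLEAdd.eulerCharLE_eq_euler k X 2 hd, euler_congr k (Ega2.Tens.swap _ _)]
  have hsum : B k Y (pull h (mk A hA)) (pull h (mk C hC)) = ∑ q ∈ Finset.range (N + 1), (-1 : ℤ) ^ q *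
        FGA.intNum k X 2 ![A, C] ((Coh.Rpush h q).obj (Coh.structureModule Y)) := by
    have e1 : chi k Y 1 = ∑ q ∈ Finset.range (N + 1), (-1 : ℤ) ^ q *
        FGA.eulerCharLE k X (CohB1.tensorMod (Coh.structureModule X)
          ((Coh.Rpush h q).obj (Coh.structureModule Y))) 2 := by
      rw [← hval hO1, ← one_def, map_one]
    unfold B
    rw [← map_mul, mk_mul_mk hA hC, hval hA, hval hC, hval hAC, e1, ← Finset.sum_sub_distrib,
      ← Finset.sum_sub_distrib, ← Finset.sum_add_distrib]
    refine Finset.sum_congr rfl fun q _ => ?_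
    rw [intNum_two']
    ring
  rw [hsum, Finset.sum_eq_single_of_mem 0 (Finset.mem_range.mpr (Nat.succ_pos N))]
  · have hadd := Fga.IntAdd.isAdd_intNum k X 2 hd ![A, C] hM
    have hpc : Coh.IsCoh ((Coh.push h).obj (Coh.structureModule Y)) :=
      Sga67.CohBasic.isCoh_of_iso
        ((Scheme.Modules.pushforward h).rightDerivedZeroIsoSelf.app (Coh.structureModule Y))
        (isCoh_rpush k h hh hOY 0)
    have small : ∀ K : X.Modules, Coh.IsCoh K → (∀ z ∈ U, z ∉ CohB1.support K) →
        FGA.intNum k X 2 ![A, C] K = 0 := by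
      intro K hK h1
      refine S3231.result k X 2 hd ![A, C] hM K hK (lt_of_le_of_lt ?_ hT)
      exact Fga.DimLt.topologicalKrullDim_mono fun z hz hzU => h1 z hzU hz
    have key := chi_map hadd (Vancyc.H175.Bir.toPush h) hOX hpc
    rw [small _ (Sga67.CohBasic.isCoh_cokernel _ hOX.1 hpc) (Fga.Compare.not_mem_support_cokernel U _
        fun V hV n => (Vancyc.H175.Bir.toPush_bijective h U V hV).2 n),
      small _ (Sga67.CohBasic.isCoh_kernel _ hOX hpc.1) (Fga.Compare.not_mem_support_kernel U _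
        fun V hV n hn => (Vancyc.H175.Bir.toPush_bijective h U V hV).1 (hn.trans (map_zero _).symm)),
      add_zero, add_zero] at key
    rw [pow_zero, one_mul, ← intNum_eq k X hA hC, key]
    exact chi_iso hadd ((Scheme.Modules.pushforward h).rightDerivedZeroIsoSelf.app (Coh.structureModule Y))
      (isCoh_rpush k h hh hOY 0)
  · intro q _ hq
    have hcoh := isCoh_rpush k h hh hOY q
    have hsub := FibSupp.support_rpush_subset h hOY q (Nat.pos_of_ne_zero hq) _ hfin
    rw [S3231.result k X 2 hd ![A, C] hM _ hcoh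
      (lt_of_le_of_lt (Fga.DimLt.topologicalKrullDim_mono hsub) hT), mul_zero]

end push

end K457.Bir
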