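import Groth.Prelude.Def_Pi1
import Groth.Agent.FlatA.AppIso
import Groth.Agent.Ega3B.NormalBirational
import Groth.Agent.Vancyc.H175.DimBir

/-!
# `f_* O_X = O_Y` for proper birational morphisms to a normal scheme
-/

set_option autoImplicit false
universe u
open CategoryTheory CategoryTheory.Limits AlgebraicGeometry

namespace K457.BirNormal

open Groth.Agent

theorem isIso_stalkMap_of_restrict {X Y : Scheme.{u}} (f : X ⟶ Y) (U : Y.Opens) [IsIso (f ∣_ U)] (x : X)
    (hx : f x ∈ U) : IsIso (f.stalkMap x) := by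
  have h := morphismRestrictStalkMap f U ⟨x, hx⟩
  have h0 : IsOpenImmersion (f ∣_ U) := inferInstance
  have h1 : IsIso ((f ∣_ U).stalkMap ⟨x, hx⟩) :=
    (IsOpenImmersion.iff_isIso_stalkMap.mp h0).2 _
  exact (MorphismProperty.isomorphisms _).arrow_mk_iso_iff h |>.mp h1

/-- `f_* O_X = O_Y` for `f` proper, `X`, `Y` integral, `Y` normal, `f` an isomorphism over a nonempty open. -/
theorem isIso_app {X Y : Scheme.{u}} [IsIntegral X] [IsIntegral Y] (hY : Pi1.IsNormalScheme Y) (f : X ⟶ Y)
    [IsProper f] (U : Y.Opens) (hU : (U : Set Y).Nonempty) [IsIso (f ∣_ U)] (V : Y.Opens) : IsIso (f.app V) := by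
  have hgU : genericPoint Y ∈ U :=
    ((genericPoint_spec Y).mem_open_set_iff U.isOpen).mpr (by simpa using hU)
  have hgen := Vancyc.H175.DimBir.map_genericPoint f U hgU
  have hst : IsIso (f.stalkMap (genericPoint X)) :=
    isIso_stalkMap_of_restrict f U _ (by rw [hgen]; exact hgU)
  have h1 : IsIso f.fromNormalization :=
    Ega3B.NormalBirational.isIso_fromNormalization (fun y => (hY y).2) f hgen hst
  have h6 := FlatA.AppIso.isIso_toNormalization_app f (f.fromNormalization ⁻¹ᵁ V)
  have h4 : (f.toNormalization ≫ f.fromNormalization).app V = f.fromNormalization.app V ≫ f.toNormalization.app _ :=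
    Scheme.Hom.comp_app _ _ _
  have h5 : IsIso ((f.toNormalization ≫ f.fromNormalization).app V) := by
    rw [h4]
    exact @IsIso.comp_isIso _ _ _ _ _ _ _ inferInstance h6
  rw [Scheme.Hom.toNormalization_fromNormalization] at h5
  exact h5

end K457.BirNormal
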