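import Groth.Agent.Surf.K457.Form
import Groth.Agent.Surf.K464.Base

/-!
# Comparison of the intersection form `K457.Form.B` with `K464.Base.dot`
-/

set_option autoImplicit false
universe u
open CategoryTheory CategoryTheory.Limits AlgebraicGeometry

namespace K457.Bridge

open Groth.Agent Groth.Agent.Grpsch.PicGrp

variable {k : Type u} [Field k] {X : Scheme.{u}} [X.Over (Spec (CommRingCat.of k))]
  [IsProper (X ↘ Spec (CommRingCat.of k))]

theorem chi_eq (hdim : topologicalKrullDim X ≤ 2) (c : Pic X) : K457.Form.chi k X c = K464.Base.chi k X c := by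
  obtain ⟨L, hL, rfl⟩ := exists_mk c
  rw [K457.Form.chi_mk hdim hL, K464.Base.chi_mk]

theorem B_eq (hdim : topologicalKrullDim X ≤ 2) (a b : Pic X) : K457.Form.B k X a b = K464.Base.dot k X a b := by
  unfold K457.Form.B K464.Base.dot
  rw [chi_eq hdim, chi_eq hdim, chi_eq hdim, chi_eq hdim]

end K457.Bridge
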