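import Groth.Agent.Fga.HodgeSec
import Groth.Agent.CurvesC.UnitCoh

/-!
# Small consequences of the long exact sequence of cohomology

* `subsingleton_one`: `H¹(A) = 0` from `0 ⟶ A ⟶ B ⟶ C ⟶ 0`, `H⁰(A) = 0`, `h⁰(B) = h⁰(C)`, `H¹(B) = 0`;
* `subsingleton_HH`: vanishing above the dimension;
* `eulerLE_curve`: `χ = h⁰ - h¹` in dimension one.
-/

set_option autoImplicit false
universe u
open CategoryTheory CategoryTheory.Limits AlgebraicGeometry

namespace K457.Coh1

open Groth.Agent Groth.Agent.Fga.HodgeSec Groth.Agent.VarietyA.EulerLES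

variable (k : Type u) [Field k] {X : Scheme.{u}} [X.Over (Spec (CommRingCat.of k))]

theorem subsingleton_one (S : ShortComplex X.Modules) (hS : S.ShortExact)
    (h0 : Subsingleton (Coh.HH X S.X₁ 0)) [Module.Finite k (Coh.HH X S.X₂ 0)] [Module.Finite k (Coh.HH X S.X₃ 0)]
    (h : Module.finrank k (Coh.HH X S.X₂ 0) = Module.finrank k (Coh.HH X S.X₃ 0))
    (h1 : Subsingleton (Coh.HH X S.X₂ 1)) : Subsingleton (Coh.HH X S.X₁ 1) := by
  have hinj : Function.Injective (mapA k S.g 0) := by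
    rw [injective_iff_map_eq_zero]
    intro x hx
    obtain ⟨y, rfl⟩ := (exactA₂ k S hS 0 x).mp hx
    rw [Subsingleton.elim y 0, map_zero]
  have hsurj : Function.Surjective (mapA k S.g 0) :=
    (LinearMap.injective_iff_surjective_of_finrank_eq_finrank h).mp hinj
  refine ⟨fun a b => ?_⟩
  have key : ∀ x : Coh.HH X S.X₁ 1, x = 0 := by
    intro x
    obtain ⟨y, rfl⟩ := (exactA₁ k S hS 0 1 rfl x).mp (Subsingleton.elim _ _)
    obtain ⟨z, rfl⟩ := hsurj y
    exact (exactA₃ k S hS 0 1 rfl _).mpr ⟨z, rfl⟩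
  rw [key a, key b]

variable [IsProper (X ↘ Spec (CommRingCat.of k))]

include k in
theorem subsingleton_HH (d : ℕ) (hdim : topologicalKrullDim X ≤ d) {F : X.Modules} (hF : Coh.IsCoh F) (p : ℕ)
    (hp : d < p) : Subsingleton (Coh.HH X F p) :=
  subsingleton_HH_of_support k hF d
    ((Topology.IsInducing.subtypeVal.topologicalKrullDim_le (Y := CohB1.support F)).trans hdim) p hp

theorem eulerLE_curve (hdim : topologicalKrullDim X ≤ (1 : ℕ)) {F : X.Modules} (hF : Coh.IsCoh F) :
    FGA.eulerCharLE k X F 2 = (Module.finrank k (Coh.HH X F 0) : ℤ) - Module.finrank k (Coh.HH X F 1) := by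
  have := subsingleton_HH k 1 hdim hF 2 (by norm_num)
  unfold FGA.eulerCharLE
  rw [Finset.sum_range_succ, Finset.sum_range_succ, Finset.sum_range_one, Module.finrank_zero_of_subsingleton (M := Coh.HH X F 2)]
  push_cast
  ring

end K457.Coh1
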