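import Groth.Agent.Surf.K455.BlowDim
import Groth.Agent.Surf.K455.ResOne
import Groth.Agent.Surf.K455.CMCut
import Groth.Agent.Surf.K455.Proj
import Groth.Agent.Surf.K464.Curves
import Groth.Agent.Surf.K457.BirNormal
import Groth.Agent.Surf.K457.Bir
import Groth.Agent.Surf.K457.Bridge
import Groth.Agent.Surf.K457.Coh1
import Groth.Agent.Models.H50.ExcNum
import Groth.Agent.Dix.HasBlow
import Groth.Agent.S10829
import Groth.Agent.VarietyA.CurveFin
import Groth.Agent.Surf.K455.CutKer

/-!
# The blow-up of a closed point of a regular surface over an algebraically closed field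

`E = f⁻¹(P)`: `isCurve`, `(E·E) = -1`, `χ(O_E) = 1`, `(f^*a · E) = 0`, `χ(f^*c) - χ(O) = χ(c) - χ(O)`.
-/

set_option autoImplicit false
universe u
open CategoryTheory CategoryTheory.Limits AlgebraicGeometry TopologicalSpace

namespace K457.BlowPt

open Groth.Agent Groth.Agent.Grpsch.PicGrp Groth.Agent.Divis.CartierBasic Groth.Agent.Dix.PointIdeal
  K464.Base K464.Curves

set_option linter.unusedSectionVars false
set_option linter.style.haveILetI false

variable (k : Type u) [Field k] [IsAlgClosed k] {X X' : Scheme.{u}} [X.Over (Spec (CommRingCat.of k))]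
  [X'.Over (Spec (CommRingCat.of k))] [IsIntegral X] [IsProper (X ↘ Spec (CommRingCat.of k))]
  (hdim : topologicalKrullDim X = 2) (hreg : ∀ x : X, IsRegularLocalRing (X.presheaf.stalk x))
  (P : X) (hP : IsClosed ({P} : Set X)) (f : X' ⟶ X) (hf : BlowUp.IsBlowUp f (pt P hP))
  (hover : f ≫ (X ↘ Spec (CommRingCat.of k)) = X' ↘ Spec (CommRingCat.of k))

omit [IsAlgClosed k] in
include hdim hP k in
theorem ringKrullDim_stalk : ringKrullDim (X.presheaf.stalk P) = 2 := by
  have : IsNoetherian X := Fga.IntAdd.isNoetherian k X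
  apply le_antisymm
  · exact K464.Curves.ringKrullDim_stalk_le hdim.le P
  · exact K455.CMCut.le_ringKrullDim_stalk k X 2 (K455.Proj.dim_components hdim) P hP

include hdim hreg hf hover in
theorem surf : ∃ _ : IsIntegral X', IsProper (X' ↘ Spec (CommRingCat.of k)) ∧ topologicalKrullDim X' = 2 ∧
    (∀ y : X', IsRegularLocalRing (X'.presheaf.stalk y)) := by
  have : IsNoetherian X := Fga.IntAdd.isNoetherian k X
  have hS : Dix.ExcPts.IsSurf X := ⟨inferInstance, inferInstance, hreg, fun x => by
    have h := K464.Curves.ringKrullDim_stalk_le hdim.le x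
    rw [ringKrullDim_stalk_eq_coheight] at h
    exact (WithBot.coe_le_coe (a := Order.coheight x) (b := 2)).mp h⟩
  obtain ⟨h1, h2, h3, h4, h5⟩ := Dix.HasBlow.isSurf_blowUp hS P hP (ringKrullDim_stalk k hdim P hP) f hf
  refine ⟨h1, ?_, Dix.HasBlow.topologicalKrullDim_eq_two h2.dim h5, h2.regular⟩
  have := h3.proper
  rw [← hover]
  infer_instance

include hdim hreg hf hover in
theorem exists_iso : IsCurve ((pt P hP).comap f) ∧ ∃ (K : Type u) (_ : Field K),
    Nonempty (CohB1.ProjSpace 1 K ≅ ((pt P hP).comap f).subscheme) := by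
  have hN : IsNoetherian X := Fga.IntAdd.isNoetherian k X
  have hr := hreg P
  obtain ⟨i, hi, hker, -⟩ := K455.ExcCurve.exists_curve f P hP (ringKrullDim_stalk k hdim P hP) hf
  letI : Field (X.presheaf.stalk P ⧸ IsLocalRing.maximalIdeal (X.presheaf.stalk P)) := Ideal.Quotient.field _
  have h1 : i.ker = ((pt P hP).comap f).subschemeι.ker := by rw [Scheme.IdealSheafData.ker_subschemeι, hker]
  have h2 := IsClosedImmersion.isIso_lift ((pt P hP).comap f).subschemeι i h1.symm
  let e : CohB1.ProjSpace 1 (X.presheaf.stalk P ⧸ IsLocalRing.maximalIdeal (X.presheaf.stalk P)) ≅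
    ((pt P hP).comap f).subscheme := @asIso _ _ _ _ _ h2
  have hint : IsIntegral (CohB1.ProjSpace 1 (X.presheaf.stalk P ⧸ IsLocalRing.maximalIdeal (X.presheaf.stalk P))) :=
    inferInstance
  have : Nonempty ((pt P hP).comap f).subscheme := ⟨e.hom (genericPoint _)⟩
  refine ⟨⟨isIntegral_of_isOpenImmersion e.inv, ?_⟩, _, _, ⟨e⟩⟩
  rw [← K464.Curves.dim_sub, ← IsHomeomorph.topologicalKrullDim_eq _ (Scheme.homeoOfIso e).isHomeomorph]
  exact S10829.result _ 1

include hdim hreg hf hover in
theorem finrank_exc : letI := overC k X' ((pt P hP).comap f)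
    Curv2.genus k ((pt P hP).comap f).subscheme = 0 := by
  letI := overC k X' ((pt P hP).comap f)
  obtain ⟨-, K, hK, ⟨e⟩⟩ := exists_iso k hdim hreg P hP f hf hover
  obtain ⟨w, hw, -⟩ := Models.H50.ExcNum.exists_const k K ((pt P hP).comap f).subscheme e
  exact hw

include hdim hreg hf hover in
theorem dot_pull (hE : BlowUp.IsEffCartierIdeal ((pt P hP).comap f)) (a : Pic X) :
    dot k X' (pull f a) (ic _ hE) = 0 := by
  obtain ⟨hI', hP', hd', hr'⟩ := surf k hdim hreg P hP f hf hover
  have hN : IsNoetherian X := Fga.IntAdd.isNoetherian k X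
  have hr := hreg P
  obtain ⟨L, hL, rfl⟩ := exists_mk a
  have h := (K455.BlowDim.main f P hP (ringKrullDim_stalk k hdim P hP) hf k hover hdim.le L L hL hL).2.1
  rw [pull_mk f hL, ← h]
  exact (intNum_eq_dot k X' hd'.le (Fdesc.LocGen.isInvertible_pullback f hL)
    (Dix.IdealModCartier.isInvertible_idealMod hE)).symm

include hdim hreg hf hover in
theorem dot_self (hE : BlowUp.IsEffCartierIdeal ((pt P hP).comap f)) :
    dot k X' (ic _ hE) (ic _ hE) = -1 := by
  obtain ⟨hI', hP', hd', hr'⟩ := surf k hdim hreg P hP f hf hover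
  have hN : IsNoetherian X := Fga.IntAdd.isNoetherian k X
  have hr := hreg P
  have hO := Fdesc.LocGen.isInvertible_structureModule (X := X)
  have h := (K455.BlowDim.main f P hP (ringKrullDim_stalk k hdim P hP) hf k hover hdim.le _ _ hO hO).2.2
  letI : Algebra k (X.residueField P) := Curv2.resAlgebra k X P
  have h6 : Module.finrank k (X.residueField P) = 1 := K455.ResOne.finrank_residueField k X hP
  rw [h6] at h
  rw [← Nat.cast_one, ← h]
  exact (intNum_eq_dot k X' hd'.le (Dix.IdealModCartier.isInvertible_idealMod hE)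
    (Dix.IdealModCartier.isInvertible_idealMod hE)).symm

/-- `χ(O) - χ(I_C) = 1 - p_a(C)`. -/
theorem chi_sub_ic {Y C : Scheme.{u}} [Y.Over (Spec (CommRingCat.of k))] [C.Over (Spec (CommRingCat.of k))]
    [IsProper (Y ↘ Spec (CommRingCat.of k))] (hd : topologicalKrullDim Y ≤ (2 : ℕ)) (i : C ⟶ Y) [IsClosedImmersion i]
    [IsIntegral C] (hC : topologicalKrullDim C = 1)
    (hi : i ≫ (Y ↘ Spec (CommRingCat.of k)) = C ↘ Spec (CommRingCat.of k)) (hE : BlowUp.IsEffCartierIdeal i.ker) :
    chi k Y 1 - chi k Y (ic i.ker hE) = 1 - (Curv2.genus k C : ℤ) := by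
  have hPC : IsProper (C ↘ Spec (CommRingCat.of k)) := by
    rw [← hi]
    infer_instance
  have hNC : IsNoetherian C := Fga.IntAdd.isNoetherian k C
  have hNY : IsNoetherian Y := Fga.IntAdd.isNoetherian k Y
  have hOC : FGA.eulerCharLE k C (Coh.structureModule C) 2 = 1 - (Curv2.genus k C : ℤ) := by
    rw [K457.Coh1.eulerLE_curve k (by rw [hC]; rfl) (CurvesC.UnitCoh.isCoh_unit C),
      VarietyA.CurveFin.finrank_h0_structure k C]
    rfl
  have hcut := K455.CutKer.euler_cut_one k i hi hd i.ker rfl
  rw [hOC, Fga.EulerLEAdd.eulerCharLE_eq_euler k Y 2 hd, Fga.EulerLEAdd.eulerCharLE_eq_euler k Y 2 hd] at hcut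
  have h1 : chi k Y 1 = Curv2.euler k Y (Coh.structureModule Y) := rfl
  have h2 : chi k Y (ic i.ker hE) = Curv2.euler k Y (ClSub.idealMod i.ker) := rfl
  rw [h1, h2]
  linarith

include hdim hreg hf hover in
theorem chi_exc (hE : BlowUp.IsEffCartierIdeal ((pt P hP).comap f)) :
    chi k X' 1 - chi k X' (ic _ hE) = 1 := by
  obtain ⟨hI', hP', hd', hr'⟩ := surf k hdim hreg P hP f hf hover
  letI := overC k X' ((pt P hP).comap f)
  have hg := finrank_exc k hdim hreg P hP f hf hover
  obtain ⟨hC, -⟩ := exists_iso k hdim hreg P hP f hf hover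
  have := hC.integral
  have hker : ((pt P hP).comap f).subschemeι.ker = (pt P hP).comap f :=
    Scheme.IdealSheafData.ker_subschemeι _
  have hE' : BlowUp.IsEffCartierIdeal ((pt P hP).comap f).subschemeι.ker := by
    rw [hker]
    exact hE
  have h := chi_sub_ic k hd'.le ((pt P hP).comap f).subschemeι ((dim_sub X' _).trans hC.dim) rfl hE'
  rw [ic_congr hE' hE hker, hg] at h
  simpa using h

include hdim hreg hf hover in
theorem chi_pull (c : Pic X) : chi k X' (pull f c) - chi k X' 1 = chi k X c - chi k X 1 := by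
  obtain ⟨hI', hP', hd', hr'⟩ := surf k hdim hreg P hP f hf hover
  have hN : IsNoetherian X := Fga.IntAdd.isNoetherian k X
  have hfp : IsProper f := K455.BlowDim.isProper_blowUp f P hP hf
  have hiso := K455.BlowDim.isIso_restrict f P hP hf
  have hmem : ∀ z : X, z ∈ K455.BlowDim.compl P hP ↔ z ≠ P := fun z => Iff.rfl
  have hne : (K455.BlowDim.compl P hP : Set X).Nonempty := by
    refine ⟨genericPoint X, (hmem _).mpr ?_⟩
    exact Dix.HasBlow.genericPoint_ne P (ringKrullDim_stalk k hdim P hP)
  have hnorm : Pi1.IsNormalScheme X := fun x => by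
    have := hreg x
    exact ⟨inferInstance, CurvesC.RegNormal.isIntegrallyClosed (X.presheaf.stalk x)⟩
  have hO : ∀ U : X.Opens, Function.Bijective (f.app U) := fun U => by
    have := K457.BirNormal.isIso_app hnorm f (K455.BlowDim.compl P hP) hne U
    exact ConcreteCategory.bijective_of_isIso (f.app U)
  have key := K457.Bir.chi_pull_sub k f hover hdim.le hd'.le (T := {P}) hP (Set.finite_singleton P)
    (fun z hz => Set.Subsingleton.finite fun a ha b hb => by
      refine Vancyc.H175.DimBir.injOn_of_isIso f (K455.BlowDim.compl P hP) ?_ ?_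
      · rw [show f a = z from ha]
        exact (hmem z).mpr hz
      · exact (show f a = z from ha).trans (show f b = z from hb).symm) hO c
  rwa [K457.Bridge.chi_eq hd'.le, K457.Bridge.chi_eq hd'.le, K457.Bridge.chi_eq hdim.le,
    K457.Bridge.chi_eq hdim.le] at key

end K457.BlowPt
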