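import Groth.Agent.Surf.K457.DualSm
import Groth.Agent.Lefpen.H703.ClosedSmooth
import Groth.Agent.Fga.DimCut
import Groth.Agent.Dual.H328.WUniv
import Groth.Agent.Dual.H339.OmegaRank
import Groth.Agent.Dual.H366.ExtQCoh
import Groth.Agent.Picfga.CurveRelDim
import Groth.Agent.Ega2.QCohLocal

/-!
# Smooth proper varieties: relative dimension, the canonical module
-/

set_option autoImplicit false
universe u
open CategoryTheory CategoryTheory.Limits AlgebraicGeometry

namespace K457.Smooth

open Groth.Agent K457.Dual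

/-- An integral regular scheme locally of finite type over a perfect field is smooth of relative dimension its
dimension. -/
theorem relDim_of_regular (k : Type u) [Field k] [PerfectField k] (X : Scheme.{u})
    [X.Over (Spec (CommRingCat.of k))] [IsIntegral X] [LocallyOfFiniteType (X ↘ Spec (CommRingCat.of k))] (n : ℕ)
    (hdim : topologicalKrullDim X = n) (hreg : ∀ x : X, IsRegularLocalRing (X.presheaf.stalk x)) :
    SmoothOfRelativeDimension n (X ↘ Spec (CommRingCat.of k)) := by
  refine Lefpen.H703.ClosedSmooth.smoothOfRelativeDimension_of_closed _ n fun z hz => ⟨hreg z, ?_⟩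
  rw [Fga.DimCut.ringKrullDim_stalk_eq k X z hz, hdim]

theorem isInvertible_canonical (k : Type u) [Field k] (X : Scheme.{u}) [X.Over (Spec (CommRingCat.of k))]
    [QuasiSeparated (X ↘ Spec (CommRingCat.of k))] (n : ℕ)
    [SmoothOfRelativeDimension n (X ↘ Spec (CommRingCat.of k))] {W : X.Modules}
    (hW : ExtPow.IsExtPow n (Omega.sheaf (X ↘ Spec (CommRingCat.of k))) W) : PicF.IsInvertible W :=
  Dual.H328.WUniv.isInvertible_extPow (Dual.H339.OmegaRank.isFinLocFreeOfRank_omega n _) hW

/-- The canonical module exists. -/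
theorem exists_canonical (k : Type u) [Field k] (X : Scheme.{u}) [X.Over (Spec (CommRingCat.of k))]
    [IsProper (X ↘ Spec (CommRingCat.of k))] (n : ℕ)
    [SmoothOfRelativeDimension n (X ↘ Spec (CommRingCat.of k))] :
    ∃ W : X.Modules, PicF.IsInvertible W ∧
      ExtPow.IsExtPow n (Omega.sheaf (X ↘ Spec (CommRingCat.of k))) W ∧ IsSD k W n := by
  have h1 := Dual.H339.OmegaRank.isFinLocFreeOfRank_omega n (X ↘ Spec (CommRingCat.of k))
  obtain ⟨W, hW⟩ := Dual.H366.ExtQCoh.exists_isExtPow n (E := Omega.sheaf (X ↘ Spec (CommRingCat.of k)))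
    (Ega2.QCohLocal.isQCoh_of_isFinLocFree (Ega2.QCohLocal.isFinLocFree_of_rank h1))
  exact ⟨W, isInvertible_canonical k X n hW, hW, K457.DualSm.isSD k X n W hW⟩

end K457.Smooth
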