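import Groth.Agent.Fga.HodgeForm
import Groth.Agent.Fga.EulerLEAdd
import Groth.Agent.Grpsch.PicGrp
import Groth.Agent.S3233

/-!
# The intersection form on the Picard group of a proper scheme of dimension `≤ 2`

* `toMC : Pic X →* MC X`, `chi k X : Pic X → ℤ` (Euler characteristic), `B k X a b = χ(1) - χ(a) - χ(b) + χ(ab)`.
* `chi_mk`, `intNum_eq`: comparison with `Curv2.euler` and `FGA.intNum k X 2 ![M, N] O`.
* `second_diff`, `B_comm`, `B_mul_left`, `B_mul_right`, `B_inv_left`, `B_inv_inv`, `B_pow_left`, `B_zpow_left`, ...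
* `rr_of_duality`: Riemann–Roch from `χ(c) = χ(w c⁻¹)`.
-/

set_option autoImplicit false
universe u
open CategoryTheory CategoryTheory.Limits AlgebraicGeometry

namespace K457.Form

open Groth.Agent Groth.Agent.Fga.PicMon Groth.Agent.Fga.AltSum Groth.Agent.Grpsch.PicGrp
  Groth.Agent.Fga.HodgeIneq Groth.Agent.Fga.HodgeForm

/-- The class in the monoid of all modules. -/
noncomputable def toMC (X : Scheme.{u}) : Pic X →* MC X where
  toFun := Quotient.lift (s := isoSetoid X) (fun L => mc L.1) (fun _ _ ⟨e⟩ => mc_eq e)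
  map_one' := rfl
  map_mul' a b := by
    induction a using ind with | _ L hL => ?_
    induction b using ind with | _ M hM => ?_
    rfl

@[simp] theorem toMC_mk {X : Scheme.{u}} {L : X.Modules} (hL : PicF.IsInvertible L) : toMC X (mk L hL) = mc L := rfl

/-- The class as a unit. -/
noncomputable def toU (X : Scheme.{u}) : Pic X →* (MC X)ˣ := (toMC X).toHomUnits

theorem coe_toU {X : Scheme.{u}} (a : Pic X) : ((toU X a : (MC X)ˣ) : MC X) = toMC X a := rfl

theorem isInvertible_of_inverse {X : Scheme.{u}} {L L' : X.Modules} (h : ClSub.IsInverseOf L L') :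
    PicF.IsInvertible L := by
  obtain ⟨e⟩ := h
  exact S2122.result L L' e

theorem inverse_symm {X : Scheme.{u}} {L L' : X.Modules} (h : ClSub.IsInverseOf L L') : ClSub.IsInverseOf L' L := by
  obtain ⟨e⟩ := h
  exact ⟨Ega2.Tens.swap L' L ≪≫ e⟩

theorem mk_eq_inv {X : Scheme.{u}} {L L' : X.Modules} (hL : PicF.IsInvertible L) (hL' : PicF.IsInvertible L')
    (h : ClSub.IsInverseOf L L') : mk L' hL' = (mk L hL)⁻¹ := by
  rw [eq_inv_iff_mul_eq_one, mul_comm, mk_mul_mk, mk_eq_one_iff]
  exact h

theorem mk_eq_inv' {X : Scheme.{u}} {L L' : X.Modules} (hL : PicF.IsInvertible L) (hL' : PicF.IsInvertible L')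
    (h : ClSub.IsInverseOf L L') : mk L hL = (mk L' hL')⁻¹ := mk_eq_inv hL' hL (inverse_symm h)

section chi

variable (k : Type u) [Field k] (X : Scheme.{u}) [X.Over (Spec (CommRingCat.of k))]

/-- The Euler characteristic (of degrees `≤ 2`) on classes. -/
noncomputable def chi (c : Pic X) : ℤ := χCl X k (toMC X c)

/-- The intersection number. -/
noncomputable def B (a b : Pic X) : ℤ := chi k X 1 - chi k X a - chi k X b + chi k X (a * b)

theorem B_eq_form (a b : Pic X) : B k X a b = form k X (toU X a) (toU X b) := by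
  unfold form B chi
  rw [dSum_two, coe_toU, coe_toU, map_mul, map_one]

theorem chi_mk_LE {L : X.Modules} (hL : PicF.IsInvertible L) : chi k X (mk L hL) = FGA.eulerCharLE k X L 2 := by
  unfold chi χCl
  rw [toMC_mk, chiCl_mc, euler_iso k X (Ega2.Tens.runit L) 2]

theorem intNum_eq {M N : X.Modules} (hM : PicF.IsInvertible M) (hN : PicF.IsInvertible N) :
    FGA.intNum k X 2 ![M, N] (Coh.structureModule X) = B k X (mk M hM) (mk N hN) := by
  rw [Fga.HodgeIneq.intNum_two, dSum_two]
  unfold B chi
  rw [map_mul, map_one, toMC_mk, toMC_mk]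

theorem B_comm (a b : Pic X) : B k X a b = B k X b a := by
  unfold B
  rw [mul_comm a b]
  ring

theorem B_one_left (a : Pic X) : B k X 1 a = 0 := by
  unfold B
  rw [one_mul]
  ring

theorem B_one_right (a : Pic X) : B k X a 1 = 0 := by
  rw [B_comm, B_one_left]

end chi

section proper

variable {k : Type u} [Field k] {X : Scheme.{u}} [X.Over (Spec (CommRingCat.of k))]
  [IsProper (X ↘ Spec (CommRingCat.of k))]

theorem chi_mk (hdim : topologicalKrullDim X ≤ 2) {L : X.Modules} (hL : PicF.IsInvertible L) :
    chi k X (mk L hL) = Curv2.euler k X L := by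
  have : IsLocallyNoetherian X := LocallyOfFiniteType.isLocallyNoetherian (X ↘ Spec (CommRingCat.of k))
  have : CompactSpace X := (quasiCompact_iff_compactSpace (X ↘ (Spec (CommRingCat.of k)))).mp inferInstance
  have : IsNoetherian X := {}
  rw [chi_mk_LE, Fga.EulerLEAdd.eulerCharLE_eq_euler k X 2 (by exact_mod_cast hdim)]

theorem chi_one (hdim : topologicalKrullDim X ≤ 2) :
    chi k X 1 = Curv2.euler k X (Coh.structureModule X) := by
  rw [one_def, chi_mk hdim]

variable (hdim : topologicalKrullDim X ≤ 2)

include hdim in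
theorem second_diff (a x y : Pic X) :
    chi k X a - chi k X (a * x) - chi k X (a * y) + chi k X (a * x * y) = B k X x y := by
  have h := second_difference k (Z := X) (by exact_mod_cast hdim) (toU X a) (toU X x) (toU X y)
  rw [B_eq_form]
  unfold form chi
  rw [← h]
  simp only [coe_toU, map_mul, mul_assoc]

include hdim in
theorem B_mul_left (x x' y : Pic X) : B k X (x * x') y = B k X x y + B k X x' y := by
  rw [B_eq_form, B_eq_form, B_eq_form, map_mul, form_mul_left k X (by exact_mod_cast hdim)]

include hdim in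
theorem B_mul_right (x y y' : Pic X) : B k X x (y * y') = B k X x y + B k X x y' := by
  rw [B_comm, B_mul_left hdim, B_comm k X y, B_comm k X y']

include hdim in
theorem B_zpow_left (x y : Pic X) (n : ℤ) : B k X (x ^ n) y = n * B k X x y := by
  rw [B_eq_form, B_eq_form, map_zpow, form_zpow_left k X (by exact_mod_cast hdim)]

include hdim in
theorem B_zpow_right (x y : Pic X) (n : ℤ) : B k X x (y ^ n) = n * B k X x y := by
  rw [B_comm, B_zpow_left hdim, B_comm]

include hdim in
theorem B_pow_left (x y : Pic X) (n : ℕ) : B k X (x ^ n) y = n * B k X x y := by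
  rw [← zpow_natCast, B_zpow_left hdim]

include hdim in
theorem B_pow_right (x y : Pic X) (n : ℕ) : B k X x (y ^ n) = n * B k X x y := by
  rw [B_comm, B_pow_left hdim, B_comm]

include hdim in
theorem B_inv_left (x y : Pic X) : B k X x⁻¹ y = - B k X x y := by
  rw [← zpow_neg_one, B_zpow_left hdim]
  ring

include hdim in
theorem B_inv_right (x y : Pic X) : B k X x y⁻¹ = - B k X x y := by
  rw [B_comm, B_inv_left hdim, B_comm]

include hdim in
theorem B_inv_inv (x y : Pic X) : B k X x⁻¹ y⁻¹ = B k X x y := by
  rw [B_inv_left hdim, B_inv_right hdim, neg_neg]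

include hdim in
theorem B_prod_left {ι : Type*} (s : Finset ι) (f : ι → Pic X) (y : Pic X) :
    B k X (∏ i ∈ s, f i) y = ∑ i ∈ s, B k X (f i) y := by
  classical
  induction s using Finset.induction_on with
  | empty => rw [Finset.prod_empty, Finset.sum_empty, B_one_left]
  | insert a s ha ih => rw [Finset.prod_insert ha, Finset.sum_insert ha, B_mul_left hdim, ih]

include hdim in
theorem B_prod_right {ι : Type*} (s : Finset ι) (f : ι → Pic X) (y : Pic X) :
    B k X y (∏ i ∈ s, f i) = ∑ i ∈ s, B k X y (f i) := by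
  rw [B_comm, B_prod_left hdim]
  exact Finset.sum_congr rfl fun i _ => B_comm k X _ _

include hdim in
/-- `χ(x^n) = χ(1) + n (χ(x) - χ(1)) + n(n-1)/2 x²`, doubled. -/
theorem two_chi_pow (x : Pic X) (n : ℕ) :
    2 * chi k X (x ^ n) = 2 * chi k X 1 + 2 * n * (chi k X x - chi k X 1) + n * (n - 1) * B k X x x := by
  induction n with
  | zero => simp
  | succ n ih =>
    have h : B k X (x ^ n) x = chi k X 1 - chi k X (x ^ n) - chi k X x + chi k X (x ^ n * x) := rfl
    rw [B_pow_left hdim] at h
    rw [pow_succ]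
    push_cast
    linear_combination ih - 2 * h

include hdim in
/-- Riemann–Roch from duality for Euler characteristics. -/
theorem rr_of_duality (w : Pic X) (h : ∀ c : Pic X, chi k X c = chi k X (w * c⁻¹)) (l : Pic X) :
    2 * chi k X l = B k X l l - B k X l w + 2 * chi k X 1 := by
  have h1 := second_diff (k := k) hdim l⁻¹ l l
  have h2 := second_diff (k := k) hdim l⁻¹ l w
  have h3 := h 1
  have h4 := h l
  simp only [inv_mul_cancel, one_mul, inv_one, mul_one] at h1 h2 h3
  rw [mul_comm w l⁻¹] at h4
  linear_combination h1 - h2 - h3 + h4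

end proper

end K457.Form
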