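import Groth.Agent.CurvesC.DualLin
import Groth.Agent.Sga2.LefPow644
import Groth.Agent.Ega3B.TensorAUnit
import Groth.Agent.Sga5.H835.Twist
import Groth.Agent.PerfA.QCohD

/-!
# Duality for a dualizing complex concentrated in one degree, twisted by an invertible module

`X` over `Spec k`.  `IsSD k X w d`: the complex `w[d]` with some linear form is a dualizing complex, i.e.
`Hom(K, w[d]) = Hom(O_X, K)^*` for all `K` in `D_QCoh(X)`.
* `IsSD.finrank_eq`: `h^i(L) = h^j(w ⊗ L')` for `L ⊗ L' ≅ O`, `i + j = d`.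
* `IsSD.exists_rep`: `w` represents `F ↦ H^d(X, F)^*` on quasi-coherent modules.
-/

set_option autoImplicit false

universe u

open CategoryTheory CategoryTheory.Limits AlgebraicGeometry Pretriangulated TopologicalSpace

attribute [local instance] HasDerivedCategory.standard

namespace K457.Dual

open Groth.Agent Groth.Agent.CurvesC Groth.Agent.CurvesC.RepX Groth.Agent.CurvesC.DualLin

variable (k : Type u) [Field k] (X : Scheme.{u}) [X.Over (Spec (CommRingCat.of k))]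

attribute [local instance] LinMod.linearModules

/-- The shift functor on morphisms. -/
noncomputable def shiftₗ (K L : DCoh.D X) (n : ℤ) : (K ⟶ L) ≃ₗ[k] (K⟦n⟧ ⟶ L⟦n⟧) :=
  LinearEquiv.ofBijective ((shiftFunctor (DCoh.D X) n).mapLinearMap k)
    ⟨Functor.map_injective _, Functor.map_surjective _⟩

theorem linear_tensorRightMod (L : X.Modules) : (DCoh.tensorRightMod L).Linear k where
  map_smul f r := by
    rw [LinMod.smul_def, LinMod.smul_def, Functor.map_comp, Ega3B.TensorAUnit.tensorRightMod_map_smul]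

variable {X}

/-- `Hom(L, w[j]) = Hom(O, (w ⊗ L')[j])` in the derived category. -/
theorem nonempty_homTwist {L L' : X.Modules} (e : CohB1.tensorMod L L' ≅ Coh.structureModule X)
    (w : X.Modules) (j : ℤ) :
    Nonempty ((DCoh.inD X L ⟶ (DCoh.inD X w)⟦j⟧) ≃ₗ[k]
      (P X ⟶ (DCoh.inD X (CohB1.tensorMod w L'))⟦j⟧)) := by
  have h1 : (DCoh.tensorRightMod L').IsEquivalence :=
    Sga2.LefPow644.isEquivalence_of_inv (Ega2.Tens.swap L' L ≪≫ e)
  have h2 : (DCoh.tensorRightMod L').Linear k := linear_tensorRightMod k X L'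

  have h3 : (DCoh.tensorRightMod L').mapDerivedCategory.IsEquivalence :=
    Sga5.H835.Twist.isEquivalence_mapDerivedCategory _
  let T := (DCoh.tensorRightMod L').mapDerivedCategory
  let a : T.obj (DCoh.inD X L) ≅ P X :=
    ((DCoh.tensorRightMod L').mapDerivedCategorySingleFunctor 0).app L ≪≫
      (DerivedCategory.singleFunctor X.Modules 0).mapIso e
  let b : T.obj ((DCoh.inD X w)⟦j⟧) ≅ (DCoh.inD X (CohB1.tensorMod w L'))⟦j⟧ :=
    (T.commShiftIso j).app _ ≪≫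
      (shiftFunctor (DCoh.D X) j).mapIso (((DCoh.tensorRightMod L').mapDerivedCategorySingleFunctor 0).app w)
  exact ⟨(LinearEquiv.ofBijective (T.mapLinearMap k)
    ⟨Functor.map_injective _, Functor.map_surjective _⟩).trans (Linear.homCongr k a b)⟩

/-- `w[d]`, with a linear form, is a dualizing complex. -/
def IsSD (w : X.Modules) (d : ℕ) : Prop :=
  ∃ τ : (P X ⟶ (DCoh.inD X w)⟦(d : ℤ)⟧) →ₗ[k] k,
    ∀ K : DCoh.D X, DCoh.IsQCohD K → Function.Bijective (pairing k X τ K)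

variable {k}

theorem isSD_of_iso {w : X.Modules} {d : ℕ} {W : DCoh.D X} (φ : (DCoh.inD X w)⟦(d : ℤ)⟧ ≅ W)
    (τ : (P X ⟶ W) →ₗ[k] k)
    (hτ : ∀ K : DCoh.D X, DCoh.IsQCohD K → Function.Bijective (pairing k X τ K)) : IsSD k w d := by
  refine ⟨τ ∘ₗ Linear.rightComp k (P X) φ.hom, fun K hK => ?_⟩
  have h1 : (pairing k X (τ ∘ₗ Linear.rightComp k (P X) φ.hom) K : _ → _) =
      (pairing k X τ K) ∘ (fun s : K ⟶ (DCoh.inD X w)⟦(d : ℤ)⟧ => s ≫ φ.hom) := by
    funext s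
    ext t
    change τ ((t ≫ s) ≫ φ.hom) = τ (t ≫ (s ≫ φ.hom))
    rw [Category.assoc]
  rw [h1]
  exact (hτ K hK).comp ⟨fun a b h => (cancel_mono φ.hom).1 h,
    fun s => ⟨s ≫ φ.inv, by
      change (s ≫ φ.inv) ≫ φ.hom = s
      rw [Category.assoc, φ.inv_hom_id, Category.comp_id]⟩⟩

theorem isSD_congr {w w' : X.Modules} {d : ℕ} (e : w' ≅ w) (h : IsSD k w d) : IsSD k w' d := by
  obtain ⟨τ, hτ⟩ := h
  exact isSD_of_iso ((shiftFunctor (DCoh.D X) (d : ℤ)).mapIso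
    ((DerivedCategory.singleFunctor X.Modules 0).mapIso e)) τ hτ

/-- `w` represents `F ↦ H^d(X, F)^*`. -/
theorem IsSD.exists_rep {w : X.Modules} {d : ℕ} (h : IsSD k w d) :
    ∃ t : HV X w d →ₗ[k] k, ∀ F : X.Modules, Coh.IsQCoh F →
      Function.Bijective (fun φ : F ⟶ w => t ∘ₗ HV.map k φ d) := by
  obtain ⟨τ, hτ⟩ := h
  refine ⟨τ ∘ₗ Linear.rightComp k (P X) (𝟙 _) ∘ₗ (homHVₗ k X w d).symm.toLinearMap, fun F hF => ?_⟩
  refine exists_unique_of_form k X d τ w (𝟙 _) (fun K _ => ?_) F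
    (hτ _ (PerfA.QCohD.isQCohD_shift (PerfA.QCohD.isQCohD_inD F hF) _))
  exact ⟨fun a b h => by simpa using h, fun s => ⟨s, Category.comp_id s⟩⟩

/-- Serre duality for an invertible module. -/
theorem IsSD.finrank_eq {w : X.Modules} {d : ℕ} (h : IsSD k w d) {L L' : X.Modules}
    (hL : Coh.IsQCoh L) (e : CohB1.tensorMod L L' ≅ Coh.structureModule X) (i j : ℕ) (hij : i + j = d) :
    Module.finrank k (HV X L i) = Module.finrank k (HV X (CohB1.tensorMod w L') j) := by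
  obtain ⟨τ, hτ⟩ := h
  have h1 := hτ ((DCoh.inD X L)⟦(i : ℤ)⟧) (PerfA.QCohD.isQCohD_shift (PerfA.QCohD.isQCohD_inD L hL) _)
  obtain ⟨e3⟩ := nonempty_homTwist k e w (j : ℤ)
  let e1 := LinearEquiv.ofBijective _ h1
  let c : (DCoh.inD X w)⟦(d : ℤ)⟧ ≅ ((DCoh.inD X w)⟦(j : ℤ)⟧)⟦(i : ℤ)⟧ :=
    (shiftFunctorAdd' (DCoh.D X) (j : ℤ) (i : ℤ) (d : ℤ) (by lia)).app _
  let e2 : ((DCoh.inD X L)⟦(i : ℤ)⟧ ⟶ (DCoh.inD X w)⟦(d : ℤ)⟧) ≃ₗ[k]
      (DCoh.inD X L ⟶ (DCoh.inD X w)⟦(j : ℤ)⟧) :=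
    (Linear.homCongr k (Iso.refl _) c).trans (shiftₗ k X _ _ (i : ℤ)).symm
  let e4 := (e1.symm.trans e2).trans (e3.trans (homHVₗ k X (CohB1.tensorMod w L') j))
  rw [← e4.finrank_eq, Subspace.dual_finrank_eq]
  exact (homHVₗ k X L i).finrank_eq.symm

end K457.Dual
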