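import Groth.Agent.Surf.K457.Dual
import Groth.Agent.Surf.K457.Form
import Groth.Agent.Ega2.QCohLocal

/-!
# Duality for Euler characteristics of classes, from a dualizing module in dimension two
-/

set_option autoImplicit false

universe u

open CategoryTheory CategoryTheory.Limits AlgebraicGeometry

namespace K457.DualChi

open Groth.Agent Groth.Agent.CurvesC Groth.Agent.Grpsch.PicGrp K457.Dual K457.Form

variable {k : Type u} [Field k] {X : Scheme.{u}} [X.Over (Spec (CommRingCat.of k))]

theorem finrank_HV (F : X.Modules) (i : ℕ) :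
    Module.finrank k (HV X F i) = Module.finrank k (Coh.HH X F i) := (HV.equiv k F i).finrank_eq

theorem finrank_dual {w : X.Modules} {d : ℕ} (h : IsSD k w d) {L L' : X.Modules} (hL : PicF.IsInvertible L)
    (e : ClSub.IsInverseOf L L') (i j : ℕ) (hij : i + j = d) :
    Module.finrank k (Coh.HH X L i) = Module.finrank k (Coh.HH X (CohB1.tensorMod w L') j) := by
  obtain ⟨e⟩ := e
  rw [← finrank_HV, ← finrank_HV]
  exact h.finrank_eq (Ega2.QCohLocal.isQCoh_of_isInvertible hL) e i j hij

theorem chi_dual {w : X.Modules} (hw : PicF.IsInvertible w) (h : IsSD k w 2) (c : Pic X) :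
    chi k X c = chi k X (mk w hw * c⁻¹) := by
  obtain ⟨L, hL, rfl⟩ := exists_mk c
  obtain ⟨L', hL', ⟨e⟩⟩ := exists_inverse hL
  have he : ClSub.IsInverseOf L L' := ⟨e⟩
  rw [← mk_eq_inv hL hL' he, mk_mul_mk, chi_mk_LE, chi_mk_LE]
  unfold FGA.eulerCharLE
  simp only [Finset.sum_range_succ, Finset.sum_range_zero]
  rw [finrank_dual h hL he 0 2 rfl, finrank_dual h hL he 1 1 rfl, finrank_dual h hL he 2 0 rfl]
  ring

end K457.DualChi
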