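import Groth.Agent.Surf.K457.Form
import Groth.Agent.Pic13.H959.CutZero
import Groth.Agent.Pic13.H956.Numbers

/-!
# Positivity on an integral proper surface

`X` integral and proper over `k`, `dim X ≤ 2`.
* `B_nonneg_of_section`: `(n · m) ≥ 0` for `n` with a nonzero section, `m` ample;
* `B_self_pos`: `(m · m) > 0` for `m` ample, `dim X = 2`;
* `exists_pow_section`: a positive power of an ample module has a nonzero section;
* `ample_sq_pos`/`hodge`: `(l · l) > 0` implies `(l · m) ≠ 0` for ample `m`;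
* `finrank_zero_eq_zero`: `h⁰(n) = 0` if `(n · m) < 0` for some ample `m`.
-/

set_option autoImplicit false
universe u
open CategoryTheory CategoryTheory.Limits AlgebraicGeometry TopologicalSpace

namespace K457.Pos

open Groth.Agent Groth.Agent.Fga Groth.Agent.Fga.RegSec Groth.Agent.Fga.PicMon Groth.Agent.Grpsch.PicGrp K457.Form

variable {k : Type u} [Field k] {X : Scheme.{u}} [X.Over (Spec (CommRingCat.of k))]
  [IsProper (X ↘ Spec (CommRingCat.of k))]

theorem mc_inv {L L' : X.Modules} (h : ClSub.IsInverseOf L L') : mc L' * mc L = 1 := by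
  obtain ⟨e⟩ := h
  rw [mul_comm, ← mc_tensor, mc_eq e, mc_one]

theorem vec2 {α : Type*} (a b : α) : (![a, b] : Fin 2 → α) = (Fin.cons a ![b] : Fin 2 → α) := by
  funext i
  fin_cases i <;> rfl

omit [IsProper (X ↘ Spec (CommRingCat.of k))] [X.Over (Spec (CommRingCat.of k))] in
theorem le_one_of_lt_two {a : WithBot ℕ∞} (h : a < (2 : ℕ)) : a ≤ (1 : ℕ) := by
  induction a using WithBot.recBotCoe with
  | bot => exact bot_le
  | coe b =>
    have h' : b < ((2 : ℕ) : ℕ∞) := WithBot.coe_lt_coe.mp h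
    refine WithBot.coe_le_coe.mpr (show b ≤ ((1 : ℕ) : ℕ∞) from ?_)
    induction b using ENat.recTopCoe with
    | top => exact absurd h' (not_lt.mpr le_top)
    | coe n =>
      have := Nat.cast_lt.mp h'
      exact Nat.cast_le.mpr (by omega)

variable (hdim : topologicalKrullDim X ≤ 2)

include hdim in
/-- `0 ≤ (N · M)` if `N` has a nonzero section and `M` is ample. -/
theorem B_nonneg_of_section [IsIntegral X] {N M : X.Modules} (hN : PicF.IsInvertible N)
    (s : Coh.structureModule X ⟶ N) (hs : s ≠ 0) (hM : CohB1.IsAmple M) :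
    0 ≤ B k X (mk N hN) (mk M hM.1) := by
  have hd : topologicalKrullDim X ≤ (2 : ℕ) := by exact_mod_cast hdim
  obtain ⟨N', hN', ⟨eN⟩⟩ := exists_inverse hN
  obtain ⟨M', hM', ⟨eM⟩⟩ := exists_inverse hM.1
  have hNi : ClSub.IsInverseOf N N' := ⟨eN⟩
  have hMi : ClSub.IsInverseOf M M' := ⟨eM⟩
  have := IntAdd.isNoetherian k X
  have hO : Coh.IsCoh (Coh.structureModule X) := CurvesC.UnitCoh.isCoh_unit X
  have hmono : Mono (mulS s (Coh.structureModule X)) :=
    HodgeSec.mono_mulS hN Fdesc.LocGen.isInvertible_structureModule s hs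
  have hNO : Coh.IsCoh (CohB1.tensorMod N (Coh.structureModule X)) :=
    Sga67.CohBasic.isCoh_of_iso (Ega2.Tens.swap _ _) (TwistCoh.isCoh_tensor hO hN)
  have hC : Coh.IsCoh (cokernel (mulS s (Coh.structureModule X))) := Sga67.CohBasic.isCoh_cokernel _ hO.1 hNO
  set G := CohB1.tensorMod N' (cokernel (mulS s (Coh.structureModule X))) with hG
  have hcoh : Coh.IsCoh G := Sga67.CohBasic.isCoh_of_iso (Ega2.Tens.swap _ _) (TwistCoh.isCoh_tensor hC hN')
  have hcut : FGA.intNum k X 2 ![N', M'] (Coh.structureModule X) = FGA.intNum k X 2 ![M'] G := by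
    rw [vec2]
    exact Pic13.H959.CutZero.intNum_cut k X 2 hd hN hN' (mc_inv hNi) s ![M'] (fun i => by
      fin_cases i; exact hM') _ hO hmono
  rw [← B_inv_inv hdim, ← mk_eq_inv hN hN' hNi, ← mk_eq_inv hM.1 hM' hMi, ← intNum_eq, hcut]
  have hgen : genericPoint X ∉ CohB1.support G := by
    rw [hG, PosMain.support_tensor X hN' hN (mc_inv hNi)]
    exact HodgeSec.genericPoint_notMem_support hN hO s hs
  have hclosed : IsClosed (CohB1.support G) := S0020.result X G hcoh.2
  have hlt : topologicalKrullDim (CohB1.support G) < (2 : ℕ) := by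
    refine DimLt.topologicalKrullDim_lt (A := Set.univ) (IrreducibleSpace.isIrreducible_univ X) hclosed
      (Set.subset_univ _) (fun h => hgen (h ▸ Set.mem_univ _)) ?_
    rw [IsHomeomorph.topologicalKrullDim_eq _ (Homeomorph.Set.univ X).isHomeomorph]
    exact lt_of_le_of_lt hd (by exact_mod_cast Nat.lt_succ_self 2)
  have hle : topologicalKrullDim (CohB1.support G) ≤ (1 : ℕ) := le_one_of_lt_two hlt
  rcases hle.lt_or_eq with h1 | h1
  · rw [S3231.result k X 2 hd ![M'] (fun i => by fin_cases i; exact hM') G hcoh h1]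
  · refine (S3233.result k X 2 hd ![M] ![M'] (fun i => by fin_cases i; exact hM)
      (fun i => by fin_cases i; exact ⟨eM⟩) G hcoh h1).le

theorem B_self_pos [Nonempty X] (hdim : topologicalKrullDim X = 2) {M : X.Modules} (hM : CohB1.IsAmple M) :
    0 < B k X (mk M hM.1) (mk M hM.1) := by
  have hd : topologicalKrullDim X ≤ 2 := hdim.le
  obtain ⟨M', hM', ⟨eM⟩⟩ := exists_inverse hM.1
  have hMi : ClSub.IsInverseOf M M' := ⟨eM⟩
  have := IntAdd.isNoetherian k X
  rw [← B_inv_inv hd, ← mk_eq_inv hM.1 hM' hMi, ← intNum_eq]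
  refine S3233.result k X 2 (by exact_mod_cast hd) ![M, M] ![M', M'] (fun i => by fin_cases i <;> exact hM)
      (fun i => by fin_cases i <;> exact ⟨eM⟩) _ (CurvesC.UnitCoh.isCoh_unit X) ?_
  rw [Pic13.H956.Numbers.support_unit, IsHomeomorph.topologicalKrullDim_eq _ (Homeomorph.Set.univ X).isHomeomorph,
    hdim]
  rfl

/-- A positive power of an ample module has a nonzero section. -/
theorem exists_pow_section [Nonempty X] {M : X.Modules} (hM : CohB1.IsAmple M) :
    ∃ (n : ℕ) (s : Coh.structureModule X ⟶ CohB1.tensorPow M (n + 1)), s ≠ 0 := by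
  obtain ⟨x⟩ := ‹Nonempty X›
  obtain ⟨n, s, hx, -⟩ := hM.2.2 x
  refine ⟨n, s, ?_⟩
  rintro rfl
  rw [Ega2.FiniteSet.genLocus_zero] at hx
  exact hx

/-- **Hodge index**, first form: `(l · l) > 0` implies `(l · m) ≠ 0` for ample `m`. -/
theorem B_ne_zero [IsIntegral X] (hdim : topologicalKrullDim X = 2) {M : X.Modules} (hM : CohB1.IsAmple M)
    (l : Pic X) (hl : 0 < B k X l l) : B k X l (mk M hM.1) ≠ 0 := by
  have hd : topologicalKrullDim X ≤ 2 := hdim.le
  obtain ⟨n, s, hs⟩ := exists_pow_section hM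
  have hMn := Fdesc.LocGen.isInvertible_tensorPow hM.1 (n + 1)
  obtain ⟨L, hL, rfl⟩ := exists_mk l
  obtain ⟨L', hL', ⟨eL⟩⟩ := exists_inverse hL
  obtain ⟨M', hM', ⟨eM⟩⟩ := exists_inverse hMn
  have hLi : ClSub.IsInverseOf L L' := ⟨eL⟩
  have hMi : ClSub.IsInverseOf (CohB1.tensorPow M (n + 1)) M' := ⟨eM⟩
  have e1 : mk (CohB1.tensorPow M (n + 1)) hMn = mk M hM.1 ^ (n + 1) := mk_tensorPow hM.1 (n + 1)
  have h := HodgeIneq.hodge_ineq k X (by exact_mod_cast hd) (CohB1.tensorPow M (n + 1)) M' L L' hMn hM' hL hL'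
    ⟨eM⟩ ⟨eL⟩ s hs
  rw [intNum_eq k X hM' hM', intNum_eq k X hL' hL', intNum_eq k X hM' hL', mk_eq_inv hMn hM' hMi,
    mk_eq_inv hL hL' hLi, B_inv_inv hd, B_inv_inv hd, B_inv_inv hd, e1, B_pow_left hd, B_pow_right hd,
    B_pow_left hd] at h
  have hp := B_self_pos hdim (k := k) hM
  have hn : (0 : ℤ) < ((n + 1 : ℕ) : ℤ) := by positivity
  have h2 := h (by positivity)
  intro h0
  rw [B_comm k X (mk M hM.1) (mk L hL), h0, mul_zero] at h2
  have h3 : 0 < ((n + 1 : ℕ) : ℤ) * (((n + 1 : ℕ) : ℤ) * B k X (mk M hM.1) (mk M hM.1)) *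
      B k X (mk L hL) (mk L hL) := by positivity
  rw [zero_pow two_ne_zero] at h2
  exact absurd h2 (not_le.mpr h3)

include hdim in
/-- `h⁰(N) = 0` if `(N · M) < 0` for some ample `M`. -/
theorem finrank_zero_eq_zero [IsIntegral X] {N M : X.Modules} (hN : PicF.IsInvertible N) (hM : CohB1.IsAmple M)
    (h : B k X (mk N hN) (mk M hM.1) < 0) : Module.finrank k (Coh.HH X N 0) = 0 := by
  by_contra hne
  obtain ⟨s, hs⟩ := HodgeSec.exists_section k (L := N) (Nat.pos_of_ne_zero hne)
  exact absurd (B_nonneg_of_section hdim hN s hs hM) (not_le.mpr h)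

end K457.Pos
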