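import Groth.Agent.Surf.K457.BlowMult

/-!
# The multiplicity of a curve at a point and the strict transform; the arithmetic genus of the strict transform
-/

set_option autoImplicit false
set_option linter.unusedSectionVars false
universe u
open CategoryTheory CategoryTheory.Limits AlgebraicGeometry TopologicalSpace

namespace K457.BlowMult

open Groth.Agent Groth.Agent.Grpsch.PicGrp Groth.Agent.Divis.CartierBasic Groth.Agent.Dix.PointIdeal
  K464.Base K464.Curves K464.DivLat

variable (k : Type u) [Field k] [IsAlgClosed k] {X X' : Scheme.{u}} [X.Over (Spec (CommRingCat.of k))]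
  [X'.Over (Spec (CommRingCat.of k))] [IsIntegral X] [IsProper (X ↘ Spec (CommRingCat.of k))]
  (hdim : topologicalKrullDim X = 2) (hreg : ∀ x : X, IsRegularLocalRing (X.presheaf.stalk x))
  (P : X) (hP : IsClosed ({P} : Set X)) (f : X' ⟶ X) (hf : BlowUp.IsBlowUp f (pt P hP))
  (hover : f ≫ (X ↘ Spec (CommRingCat.of k)) = X' ↘ Spec (CommRingCat.of k))

include k hdim hreg hf in
/-- If `C ≤ 𝔪_P^m`, `C ≰ 𝔪_P^(m+1)` then `f⁻¹ C ≰ E^(m+1)`. -/
theorem not_le {C : X.IdealSheafData} (hEC : BlowUp.IsEffCartierIdeal C) {m : ℕ} (hm : C ≤ pt P hP ^ m)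
    (hm' : ¬ C ≤ pt P hP ^ (m + 1)) : ¬ C.comap f ≤ ((pt P hP).comap f) ^ (m + 1) := by
  intro hle
  have hN : IsNoetherian X := Fga.IntAdd.isNoetherian k X
  have hr := hreg P
  obtain ⟨g, hg, hCg⟩ := (isEffCartierIdeal_iff_stalkIdeal C).mp hEC P
  have hst : stalkIdeal (pt P hP) P = IsLocalRing.maximalIdeal _ := stalkIdeal_pt P hP
  have hgm : g ∈ IsLocalRing.maximalIdeal (X.presheaf.stalk P) ^ m := by
    have h1 := stalkIdeal_mono hm P
    rw [stalkIdeal_pow, hst, hCg, Ideal.span_singleton_le_iff_mem] at h1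
    exact h1
  have hgm' : g ∉ IsLocalRing.maximalIdeal (X.presheaf.stalk P) ^ (m + 1) := by
    intro hmem
    apply hm'
    refine le_of_stalkIdeal fun x => ?_
    by_cases hx : x = P
    · subst hx
      rw [stalkIdeal_pow, hst, hCg, Ideal.span_singleton_le_iff_mem]
      exact hmem
    · rw [stalkIdeal_pow, Dix.BlowIrr.stalkIdeal_pt_of_ne P hP x hx, Ideal.top_pow]
      exact le_top
  have hflat : Flat (X.fromSpecStalk P) := VarietyA.FlatStalk.flat_fromSpecStalk X P
  have h1 := S1680.result (X.fromSpecStalk P) (pt P hP) f hf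
  rw [comap_fromSpecStalk_pt] at h1
  have h2 := (S7928.result (X.presheaf.stalk P) (K457.BlowPt.ringKrullDim_stalk k hdim P hP) _ h1 g m hgm hgm').2.1
  apply h2
  rw [← hCg, ← comap_fromSpecStalk, ← Scheme.IdealSheafData.comap_comp, pullback.condition,
    Scheme.IdealSheafData.comap_comp]
  have h3 : (((pt P hP).comap f) ^ (m + 1)).comap (pullback.snd (X.fromSpecStalk P) f) =
      BlowUp.exceptional (pullback.fst (X.fromSpecStalk P) f)
        (Curv2.idealSheaf (X.presheaf.stalk P) (IsLocalRing.maximalIdeal (X.presheaf.stalk P))) ^ (m + 1) := by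
    rw [Divis.IdealComap.comap_pow, ← Scheme.IdealSheafData.comap_comp, ← pullback.condition,
      Scheme.IdealSheafData.comap_comp, comap_fromSpecStalk_pt]
  rw [← h3]
  exact Scheme.IdealSheafData.comap_mono _ hle

include k hdim hreg hf hover in
/-- `f⁻¹ C = E^m C'` with `m` the multiplicity. -/
theorem comap_eq_mult {C : X.IdealSheafData} (hC : IsCurve C) {C' : X'.IdealSheafData} (hC' : IsCurve C')
    (hE : BlowUp.IsEffCartierIdeal ((pt P hP).comap f)) (hEC : BlowUp.IsEffCartierIdeal C)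
    (hEC' : BlowUp.IsEffCartierIdeal C') (hCP : f (gp hC') = gp hC) {m : ℕ} (hm : C ≤ pt P hP ^ m)
    (hm' : ¬ C ≤ pt P hP ^ (m + 1)) :
    BlowUp.IsEffCartierIdeal (C.comap f) ∧ C.comap f = ((pt P hP).comap f) ^ m * C' := by
  obtain ⟨hI', hP', hd', hr'⟩ := K457.BlowPt.surf k hdim hreg P hP f hf hover
  have hN : IsNoetherian X := Fga.IntAdd.isNoetherian k X
  have hN' : IsNoetherian X' := Fga.IntAdd.isNoetherian k X'
  obtain ⟨hEc, -⟩ := K457.BlowPt.exists_iso k hdim hreg P hP f hf hover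
  obtain ⟨hT, n, hn⟩ := comap_eq k hdim hreg P hP f hf hover hC hC' hE hEC hEC' hCP
  refine ⟨hT, ?_⟩
  have hCne : gp hC ≠ P := by
    intro h
    have h1 := ringKrullDim_gp k (X ↘ Spec (CommRingCat.of k)) hdim hC
    rw [h, K457.BlowPt.ringKrullDim_stalk k hdim P hP] at h1
    exact absurd h1 (by decide)
  have hnot : gp hEc ∉ C'.support := by
    intro hmem
    have := eq_of_gp_mem hEc hC' hmem
    have h1 : f (gp hC') = P := (mem_exc_iff P hP f _).mp (by rw [this]; exact gp_mem hC')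
    exact hCne (hCP.symm.trans h1)
  obtain ⟨g, hg, hgE⟩ := (isEffCartierIdeal_iff_stalkIdeal _).mp hE (gp hEc)
  have hg1 : ¬ IsUnit g := by
    intro hu
    have := (mem_support_iff_stalkIdeal_ne_top ((pt P hP).comap f) _).mp (gp_mem hEc)
    exact this (by rw [hgE]; exact Ideal.span_singleton_eq_top.mpr hu)
  have h1 : m ≤ n := by
    have h2 : C.comap f ≤ ((pt P hP).comap f) ^ m := by
      rw [← Divis.IdealComap.comap_pow]
      exact Scheme.IdealSheafData.comap_mono _ hm
    have h3 := stalkIdeal_mono h2 (gp hEc)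
    rw [hn, stalkIdeal_mul, stalkIdeal_pow, stalkIdeal_pow, stalkIdeal_eq_top hnot, Ideal.mul_top, hgE] at h3
    exact le_of_pow_le_pow hg hg1 h3
  have h2 : n ≤ m := by
    by_contra hlt
    push Not at hlt
    refine not_le k hdim hreg P hP f hf hEC hm hm' ?_
    rw [hn]
    refine (K464.DivLat.mul_le_left _ _).trans ?_
    obtain ⟨c, hc⟩ := Nat.exists_eq_add_of_lt hlt
    rw [show n = (m + 1) + c by omega, pow_add]
    exact K464.DivLat.mul_le_left _ _
  rw [hn, le_antisymm h2 h1]

include hdim hreg hf hover in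
theorem chi_exc_pow (hE : BlowUp.IsEffCartierIdeal ((pt P hP).comap f)) (m : ℕ) :
    2 * (chi k X' (ic _ hE ^ m) - chi k X' 1) = - (m * (m + 1) : ℤ) := by
  obtain ⟨hI', hP', hd', hr'⟩ := K457.BlowPt.surf k hdim hreg P hP f hf hover
  have h1 := K457.BlowPt.chi_exc k hdim hreg P hP f hf hover hE
  have h2 := K457.BlowPt.dot_self k hdim hreg P hP f hf hover hE
  induction m with
  | zero => simp
  | succ m ih =>
    rw [pow_succ, chi_mul, dot_pow_left k X' hd'.le, h2]
    push_cast at ih ⊢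
    linarith

include hdim hreg hf hover in
/-- The arithmetic genus of the strict transform. -/
theorem chi_strict {C : X.IdealSheafData} (hC : IsCurve C) {C' : X'.IdealSheafData} (hC' : IsCurve C')
    (hE : BlowUp.IsEffCartierIdeal ((pt P hP).comap f)) (hEC : BlowUp.IsEffCartierIdeal C)
    (hEC' : BlowUp.IsEffCartierIdeal C') (hCP : f (gp hC') = gp hC) {m : ℕ} (hm : C ≤ pt P hP ^ m)
    (hm' : ¬ C ≤ pt P hP ^ (m + 1)) :
    2 * (chi k X' 1 - chi k X' (ic C' hEC')) = 2 * (chi k X 1 - chi k X (ic C hEC)) + m * (m - 1) := by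
  obtain ⟨hI', hP', hd', hr'⟩ := K457.BlowPt.surf k hdim hreg P hP f hf hover
  obtain ⟨hT, hCf⟩ := comap_eq_mult k hdim hreg P hP f hf hover hC hC' hE hEC hEC' hCP hm hm'
  have h1 : pull f (ic C hEC) = ic _ hE ^ m * ic C' hEC' := by
    rw [K457.Total.pull_ic f hEC hT, ic_congr hT (Divis.EffCartier.isEff_mul (Divis.EffCartier.isEff_pow hE m) hEC') hCf,
      ic_mul (Divis.EffCartier.isEff_pow hE m) hEC', ic_pow hE]
  have h2 := K457.BlowPt.chi_pull k hdim hreg P hP f hf hover (ic C hEC)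
  have h3 := K457.BlowPt.dot_pull k hdim hreg P hP f hf hover hE (ic C hEC)
  have h4 := K457.BlowPt.dot_self k hdim hreg P hP f hf hover hE
  have h5 := chi_exc_pow k hdim hreg P hP f hf hover hE m
  rw [h1, dot_mul_left k X' hd'.le, dot_pow_left k X' hd'.le, h4] at h3
  rw [h1, chi_mul, dot_pow_left k X' hd'.le, dot_comm] at h2
  have h6 : dot k X' (ic C' hEC') (ic _ hE) = m := by linarith
  rw [h6] at h2
  linarith

end K457.BlowMult
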