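import Groth.Agent.Surf.K457.Pos
import Groth.Agent.Surf.K457.DualChi

/-!
# Growth of sections of line bundles with positive self-intersection on a surface with a dualizing module
-/

set_option autoImplicit false
universe u
open CategoryTheory CategoryTheory.Limits AlgebraicGeometry

namespace K457.Growth

open Groth.Agent Groth.Agent.Grpsch.PicGrp K457.Dual K457.DualChi K457.Form K457.Pos

variable {k : Type u} [Field k] {X : Scheme.{u}} [X.Over (Spec (CommRingCat.of k))]
  [IsProper (X ↘ Spec (CommRingCat.of k))] [IsIntegral X]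

theorem finrank_two_pow_eq_zero (hdim : topologicalKrullDim X = 2) {w : X.Modules} (hw : PicF.IsInvertible w)
    (hsd : IsSD k w 2) {L M : X.Modules} (hL : PicF.IsInvertible L) (hM : CohB1.IsAmple M)
    (hlm : 0 < B k X (mk L hL) (mk M hM.1)) (n : ℕ) (hn : B k X (mk w hw) (mk M hM.1) < n) :
    Module.finrank k (Coh.HH X (CohB1.tensorPow L n) 2) = 0 := by
  have hd : topologicalKrullDim X ≤ 2 := hdim.le
  have hLn := Fdesc.LocGen.isInvertible_tensorPow hL n
  obtain ⟨P, hP, ⟨e⟩⟩ := exists_inverse hLn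
  have hPi : ClSub.IsInverseOf (CohB1.tensorPow L n) P := ⟨e⟩
  rw [finrank_dual hsd hLn hPi 2 0 rfl]
  refine finrank_zero_eq_zero hd (Fdesc.LocGen.isInvertible_tensorMod hw hP) hM ?_
  rw [← mk_mul_mk hw hP, B_mul_left hd, mk_eq_inv hLn hP hPi, B_inv_left hd, mk_tensorPow hL n, B_pow_left hd]
  have h1 : (n : ℤ) ≤ n * B k X (mk L hL) (mk M hM.1) := le_mul_of_one_le_right (by positivity) hlm
  linarith

theorem two_h0_pow (hdim : topologicalKrullDim X = 2) {w : X.Modules} (hw : PicF.IsInvertible w)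
    (hsd : IsSD k w 2) {L M : X.Modules} (hL : PicF.IsInvertible L) (hM : CohB1.IsAmple M)
    (hlm : 0 < B k X (mk L hL) (mk M hM.1)) (n : ℕ) (hn : B k X (mk w hw) (mk M hM.1) < n) :
    2 * chi k X 1 + 2 * n * (chi k X (mk L hL) - chi k X 1) + n * (n - 1) * B k X (mk L hL) (mk L hL) ≤
      2 * (Module.finrank k (Coh.HH X (CohB1.tensorPow L n) 0) : ℤ) := by
  have hd : topologicalKrullDim X ≤ 2 := hdim.le
  have hLn := Fdesc.LocGen.isInvertible_tensorPow hL n
  rw [← two_chi_pow hd, ← mk_tensorPow hL n, chi_mk_LE]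
  have h1 := Fga.HodgeSec.euler_le k (CohB1.tensorPow L n)
  rw [finrank_two_pow_eq_zero hdim hw hsd hL hM hlm n hn] at h1
  push_cast at h1
  linarith

theorem growth (hdim : topologicalKrullDim X = 2) {w : X.Modules} (hw : PicF.IsInvertible w)
    (hsd : IsSD k w 2) {L M : X.Modules} (hL : PicF.IsInvertible L) (hM : CohB1.IsAmple M)
    (hll : 0 < B k X (mk L hL) (mk L hL)) (hlm : 0 < B k X (mk L hL) (mk M hM.1)) :
    ∃ c : ℚ, 0 < c ∧ ∃ m₀ : ℕ, ∀ m : ℕ, m₀ ≤ m →
        c * (m : ℚ) ^ 2 < (Module.finrank k (Coh.HH X (CohB1.tensorPow L m) 0) : ℚ) := by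
  set a := chi k X (mk L hL) - chi k X 1 with ha
  set b := B k X (mk L hL) (mk L hL) with hb
  set e := chi k X 1 with he
  refine ⟨1 / 4, by norm_num, (B k X (mk w hw) (mk M hM.1)).natAbs + 4 * a.natAbs + 4 * e.natAbs + 5, fun n hn => ?_⟩
  have h1 := two_h0_pow hdim hw hsd hL hM hlm n (by omega)
  rw [← ha, ← hb, ← he] at h1
  have h2 : (n : ℤ) * (n - 1) ≤ n * (n - 1) * b :=
    le_mul_of_one_le_right (mul_nonneg (by positivity) (by omega)) hll
  have h3 : (4 * |a| + 4 * |e| + 5 : ℤ) ≤ n := by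
    have := Int.natCast_natAbs a
    have := Int.natCast_natAbs e
    omega
  have h4 : (n : ℤ) ^ 2 < 4 * (Module.finrank k (Coh.HH X (CohB1.tensorPow L n) 0) : ℤ) := by
    have h5 := neg_abs_le a
    have h6 := neg_abs_le e
    nlinarith [abs_nonneg a, abs_nonneg e, mul_nonneg (abs_nonneg a) (show (0 : ℤ) ≤ n by positivity)]
  have h5 : ((n : ℚ)) ^ 2 < 4 * (Module.finrank k (Coh.HH X (CohB1.tensorPow L n) 0) : ℚ) := by exact_mod_cast h4
  linarith

end K457.Growth
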