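import Groth.Agent.Surf.K457.Dual
import Groth.Agent.PerfB.DualMod
import Groth.Agent.S3637

/-!
# Serre duality on proper Cohen–Macaulay equidimensional schemes over a field
-/

set_option autoImplicit false

universe u

open CategoryTheory CategoryTheory.Limits AlgebraicGeometry Pretriangulated TopologicalSpace

attribute [local instance] HasDerivedCategory.standard

namespace K457.DualCM

open Groth.Agent Groth.Agent.CurvesC Groth.Agent.PerfA K457.Dual

/-- A proper Cohen–Macaulay scheme of pure dimension `d` over a field has a coherent dualizing module `w` with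
`Hom(K, w[d]) = Hom(O_X, K)^*` for all `K` in `D_QCoh(X)`. -/
theorem exists_isSD (k : Type u) [Field k] (X : Scheme.{u}) [X.Over (Spec (CommRingCat.of k))]
    [IsProper (X ↘ Spec (CommRingCat.of k))]
    (hCM : ∀ x : X, LocCoh.IsCohenMacaulayLocalRing (X.presheaf.stalk x)) (d : ℕ)
    (hd : ∀ Z : Set X, Z ∈ irreducibleComponents X → topologicalKrullDim ↥Z = (d : WithBot ℕ∞)) :
    ∃ w : X.Modules, Coh.IsCoh w ∧ IsSD k w d := by
  have hR := Dcoh.DerSch.hasRpush (X ↘ Spec (CommRingCat.of k))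
  have h : DCoh.RpushPreservesQCoh (X ↘ Spec (CommRingCat.of k)) := fun K hK =>
    S0998.result (X ↘ Spec (CommRingCat.of k)) K hK
  have hc : CompactSpace X := by
    have := QuasiCompact.compactSpace_of_compactSpace (X ↘ Spec (CommRingCat.of k))
    exact this
  have hq : QuasiSeparatedSpace X :=
    quasiSeparatedSpace_of_quasiSeparated (X ↘ Spec (CommRingCat.of k))
  have hs : DCoh.HasShriek (X ↘ Spec (CommRingCat.of k)) h :=
    S1766.result X (Spec (CommRingCat.of k)) (X ↘ Spec (CommRingCat.of k)) h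
  have hO : Coh.IsCoh (Coh.structureModule (Spec (CommRingCat.of k))) :=
    CurvesB.UnitCoh.isCoh_structureModule _
  let OY : DCoh.DQCoh (Spec (CommRingCat.of k)) :=
    ⟨DCoh.inD _ (Coh.structureModule (Spec (CommRingCat.of k))), QCohD.isQCohD_inD _ hO.1⟩
  obtain ⟨τ, hτ⟩ := DualLin.exists_form k X h OY ⟨Iso.refl _⟩
  obtain ⟨h1, h2, -⟩ := S3637.result k X (X ↘ Spec (CommRingCat.of k)) hCM d hd h _
    (DCoh.shriekAdj (X ↘ Spec (CommRingCat.of k)) h) OY ⟨Iso.refl _⟩
  refine ⟨_, h2, ?_⟩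
  have hle : (DCoh.dualizingCx (X ↘ Spec (CommRingCat.of k)) h OY).IsLE (-(d : ℤ)) :=
    (DerivedCategory.isLE_iff _ _).2 fun i hi => h1 i hi.ne'
  have hge : (DCoh.dualizingCx (X ↘ Spec (CommRingCat.of k)) h OY).IsGE (-(d : ℤ)) :=
    (DerivedCategory.isGE_iff _ _).2 fun i hi => h1 i hi.ne
  obtain ⟨e⟩ := SingleTri.exists_iso_shift (DCoh.dualizingCx (X ↘ Spec (CommRingCat.of k)) h OY) (d : ℤ) _
    (Iso.refl _)
  exact isSD_of_iso e τ hτ

/-- Uniqueness of the representing pair on coherent modules. -/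
theorem nonempty_iso_of_rep (k : Type u) [Field k] (X : Scheme.{u}) [X.Over (Spec (CommRingCat.of k))] (d : ℕ)
    {w w' : X.Modules} (hw : Coh.IsCoh w) (hw' : Coh.IsCoh w') (t : HV X w d →ₗ[k] k) (t' : HV X w' d →ₗ[k] k)
    (h : ∀ F : X.Modules, Coh.IsCoh F → Function.Bijective (fun φ : F ⟶ w => t ∘ₗ HV.map k φ d))
    (h' : ∀ F : X.Modules, Coh.IsCoh F → Function.Bijective (fun φ : F ⟶ w' => t' ∘ₗ HV.map k φ d)) :
    Nonempty (w ≅ w') := by
  obtain ⟨a, ha⟩ := (h' w hw).2 t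
  obtain ⟨b, hb⟩ := (h w' hw').2 t'
  refine ⟨⟨a, b, (h w hw).1 ?_, (h' w' hw').1 ?_⟩⟩
  · change t ∘ₗ HV.map k (a ≫ b) d = t ∘ₗ HV.map k (𝟙 w) d
    rw [HV.map_comp, ← LinearMap.comp_assoc, HV.map_id, LinearMap.comp_id]
    exact (congrArg (fun s => s ∘ₗ HV.map k a d) hb).trans ha
  · change t' ∘ₗ HV.map k (b ≫ a) d = t' ∘ₗ HV.map k (𝟙 w') d
    rw [HV.map_comp, ← LinearMap.comp_assoc, HV.map_id, LinearMap.comp_id]
    exact (congrArg (fun s => s ∘ₗ HV.map k b d) ha).trans hb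

end K457.DualCM
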