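import Groth.Agent.ArSurf.K481.ElimOpen
import Groth.Agent.Dix.ExcFactor
import Groth.Agent.CurvesC.SpreadIso
import Groth.Agent.CohqB.ProjBC
import Groth.Agent.Vancyc.H175.DimBir

/-!
# Two modifications of a surface are dominated by a third one
-/

set_option autoImplicit false
universe u
open CategoryTheory CategoryTheory.Limits AlgebraicGeometry TopologicalSpace

namespace K457.Dom

open Groth.Agent Groth.Agent.Ega4B.RegChain Groth.Agent.Dix.MinusCurve Groth.Agent.Dix.ExcPts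

theorem isIso_restrict_of_le {X Y : Scheme.{u}} (f : X ⟶ Y) {U V : Y.Opens} (h : V ≤ U) [IsIso (f ∣_ U)] :
    IsIso (f ∣_ V) := by
  have h1 : IsPullback (f ∣_ V) (f ⁻¹ᵁ V).ι V.ι f := isPullback_morphismRestrict f V
  have h2 : IsPullback (f ∣_ U) (f ⁻¹ᵁ U).ι U.ι f := isPullback_morphismRestrict f U
  have h3 : IsPullback (X.homOfLE (show f ⁻¹ᵁ V ≤ f ⁻¹ᵁ U from fun x hx => h hx)) (f ∣_ V) (f ∣_ U) (Y.homOfLE h) := by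
    refine IsPullback.of_right ?_ ?_ h2.flip
    · simpa using h1.flip
    · rw [← cancel_mono U.ι]
      simp
  exact MorphismProperty.of_isPullback (P := MorphismProperty.isomorphisms Scheme) h3 ‹_›

theorem isBir_rchain {R : Type u} [CommRing R] [IsNoetherianRing R] {Z X : Over (Spec (CommRingCat.of R))}
    {r : Z ⟶ X} {n : ℕ} (h : RChain r n) : IsRegSurf R X → ∀ [IsIntegral Z.left] [IsIntegral X.left], IsBir r.left := by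
  induction h with
  | iso e he =>
    intro hX _ _
    have : IsIso e.left := isIso_left e
    exact ⟨inferInstance, Vancyc.H175.DimBir.map_genericPoint e.left ⊤ trivial, inferInstance⟩
  | @step Z Z' X π r n z hπ hr ih =>
    intro hX hZi hXi
    have hZ'i := hπ.target.isIntegral
    have hZ'p := hπ.target.proper
    have hZ'n : IsLocallyNoetherian Z'.left := LocallyOfFiniteType.isLocallyNoetherian Z'.hom
    have hne : genericPoint Z'.left ≠ z := by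
      intro h0
      have h1 := hπ.dim_eq
      rw [← h0, ringKrullDim_stalk_eq_coheight] at h1
      have h3 : Order.coheight (genericPoint Z'.left) = 0 := by
        rw [Order.coheight_eq_zero]
        intro b _
        exact genericPoint_specializes b
      rw [h3] at h1
      exact absurd h1 (by decide)
    obtain ⟨_, hb, -⟩ := Dix.ExcPts.isBir_blowUp π.left z hπ.isClosed hne hπ.isBlowUp
    exact Dix.ExcPts.isBir_comp π.left r.left hb (ih hX)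

/-- A projective scheme over a field is projective over the spectrum in the sense of the Neron file. -/
theorem isProjectiveOver (k : Type u) [Field k] {Y : Scheme.{u}} (p : Y ⟶ Spec (CommRingCat.of k))
    (h : ∃ (n : ℕ) (ι : Y ⟶ CohB1.ProjSpace n k), IsClosedImmersion ι ∧ ι ≫ CohB1.ProjSpace.toSpec n k = p) :
    Neron.IsProjectiveOver k (Over.mk p) := by
  obtain ⟨n, ι, hι, hιp⟩ := h
  refine ⟨n, ι ≫ (CohqB.ProjBC.projSpaceOverIso n k).inv, inferInstance, ?_⟩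
  rw [Category.assoc, CohqB.ProjBC.projSpaceOverIso_inv_toBase]
  exact hιp

theorem isDominant_ι {X : Scheme.{u}} [IsIntegral X] (U : X.Opens) (h : (U : Set X).Nonempty) : IsDominant U.ι :=
  Opens.isDominant_ι (U.isOpen.dense h)

/-- The comparison morphism of two modifications over the common open subset. -/
theorem exists_rat {X Y₁ Y₂ : Scheme.{u}} (φ₁ : Y₁ ⟶ X) (φ₂ : Y₂ ⟶ X) (U : X.Opens) [IsIso (φ₁ ∣_ U)]
    [IsIso (φ₂ ∣_ U)] : ∃ φ : ((φ₁ ⁻¹ᵁ U : Y₁.Opens) : Scheme.{u}) ⟶ Y₂, φ ≫ φ₂ = (φ₁ ⁻¹ᵁ U).ι ≫ φ₁ := by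
  refine ⟨(φ₁ ∣_ U) ≫ inv (φ₂ ∣_ U) ≫ (φ₂ ⁻¹ᵁ U).ι, ?_⟩
  simp only [Category.assoc]
  rw [← morphismRestrict_ι, IsIso.inv_hom_id_assoc, morphismRestrict_ι]

theorem comp_eq {S X Y₁ Y₂ Z : Scheme.{u}} [IsIntegral Z] (p : X ⟶ S) [IsSeparated p] (φ₁ : Y₁ ⟶ X) (φ₂ : Y₂ ⟶ X)
    (r : Z ⟶ Y₁) (g : Z ⟶ Y₂) (W : Y₁.Opens) (φ : (W : Scheme.{u}) ⟶ Y₂) (hφ : φ ≫ φ₂ = W.ι ≫ φ₁)
    (hW : ((r ⁻¹ᵁ W : Z.Opens) : Set Z).Nonempty) (hg : (r ⁻¹ᵁ W).ι ≫ g = (r ∣_ W) ≫ φ)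
    (hw : r ≫ φ₁ ≫ p = g ≫ φ₂ ≫ p) : r ≫ φ₁ = g ≫ φ₂ := by
  have hdom := isDominant_ι (r ⁻¹ᵁ W) hW
  refine ext_of_isDominant_of_isSeparated p ?_ (r ⁻¹ᵁ W).ι ?_
  · rw [Category.assoc, Category.assoc, hw]
  · have h1 : (r ⁻¹ᵁ W).ι ≫ g ≫ φ₂ = (r ∣_ W) ≫ φ ≫ φ₂ := by
      rw [← Category.assoc, hg, Category.assoc]
    rw [h1, hφ, ← Category.assoc, morphismRestrict_ι_assoc, Category.assoc]

theorem exists_iso_locus {X Y Z : Scheme.{u}} [IsIntegral Y] (φ : Y ⟶ X) (r : Z ⟶ Y) (U : X.Opens)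
    [IsIso (φ ∣_ U)] (hgU : genericPoint Y ∈ φ ⁻¹ᵁ U) (V₁ : Y.Opens) (hV₁ : genericPoint Y ∈ V₁) [IsIso (r ∣_ V₁)] :
    ∃ V : X.Opens, (V : Set X).Nonempty ∧ V ≤ U ∧ IsIso ((r ≫ φ) ∣_ V) := by
  let O : (U : Scheme.{u}).Opens := (inv (φ ∣_ U)) ⁻¹ᵁ ((φ ⁻¹ᵁ U).ι ⁻¹ᵁ V₁)
  let V : X.Opens := U.ι ''ᵁ O
  have hVU : V ≤ U := by
    intro x hx
    obtain ⟨o, -, rfl⟩ := hx
    exact o.2
  have hVV : φ ⁻¹ᵁ V ≤ V₁ := by
    intro y hy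
    obtain ⟨o, ho, hoy⟩ := hy
    have h1 : (inv (φ ∣_ U)) o ∈ (φ ⁻¹ᵁ U).ι ⁻¹ᵁ V₁ := ho
    have h2 : φ ((φ ⁻¹ᵁ U).ι ((inv (φ ∣_ U)) o)) = φ y := by
      rw [← Scheme.Hom.comp_apply, ← morphismRestrict_ι, Scheme.Hom.comp_apply, ← Scheme.Hom.comp_apply _ (φ ∣_ U),
        IsIso.inv_hom_id]
      exact hoy
    have h3 : φ ((φ ⁻¹ᵁ U).ι ((inv (φ ∣_ U)) o)) ∈ U := ((inv (φ ∣_ U)) o).2
    have h4 := Vancyc.H175.DimBir.injOn_of_isIso φ U h3 h2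
    change y ∈ V₁
    rw [← h4]
    exact h1
  refine ⟨V, ?_, hVU, ?_⟩
  · let η : ((φ ⁻¹ᵁ U : Y.Opens) : Scheme.{u}) := ⟨genericPoint Y, hgU⟩
    refine ⟨U.ι ((φ ∣_ U) η), (φ ∣_ U) η, ?_, rfl⟩
    change (inv (φ ∣_ U)) ((φ ∣_ U) η) ∈ (φ ⁻¹ᵁ U).ι ⁻¹ᵁ V₁
    rw [← Scheme.Hom.comp_apply, IsIso.hom_inv_id]
    exact hV₁
  · rw [morphismRestrict_comp]
    have h1 : IsIso (φ ∣_ V) := isIso_restrict_of_le φ hVU
    have h2 : IsIso (r ∣_ (φ ⁻¹ᵁ V)) := isIso_restrict_of_le r hVV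
    exact @IsIso.comp_isIso _ _ _ _ _ _ _ h2 h1

/-- Two modifications of `X` are dominated by a third one, which is a regular surface. -/
theorem exists_dom (k : Type u) [Field k] {X Y₁ Y₂ : Scheme.{u}} [hY₁ : IsIntegral Y₁] (p : X ⟶ Spec (CommRingCat.of k))
    [IsSeparated p] (φ₁ : Y₁ ⟶ X) (φ₂ : Y₂ ⟶ X) (hd₁ : topologicalKrullDim Y₁ = 2)
    (hreg₁ : ∀ y : Y₁, IsRegularLocalRing (Y₁.presheaf.stalk y)) [IsProper (φ₁ ≫ p)]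
    (hproj₂ : ∃ (n : ℕ) (ι : Y₂ ⟶ CohB1.ProjSpace n k), IsClosedImmersion ι ∧
      ι ≫ CohB1.ProjSpace.toSpec n k = φ₂ ≫ p)
    (U : X.Opens) (hU : (U : Set X).Nonempty) [IsIso (φ₁ ∣_ U)] [IsIso (φ₂ ∣_ U)] :
    ∃ (Z : Scheme.{u}) (g₁ : Z ⟶ Y₁) (g₂ : Z ⟶ Y₂), g₁ ≫ φ₁ = g₂ ≫ φ₂ ∧ ∃ _ : IsIntegral Z,
      IsProper (g₁ ≫ φ₁ ≫ p) ∧ topologicalKrullDim Z = 2 ∧ (∀ z : Z, IsRegularLocalRing (Z.presheaf.stalk z)) ∧
      ∃ V : X.Opens, (V : Set X).Nonempty ∧ V ≤ U ∧ IsIso ((g₁ ≫ φ₁) ∣_ V) := by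
  have hX₁ : IsRegSurf k (Over.mk (φ₁ ≫ p)) :=
    ⟨hreg₁, ‹_›, hd₁, inferInstanceAs (Flat (φ₁ ≫ p)), ‹_›⟩
  obtain ⟨φ, hφφ⟩ := exists_rat φ₁ φ₂ U
  obtain ⟨u, hu⟩ := hU
  have hU₁ : ((φ₁ ⁻¹ᵁ U : Y₁.Opens) : Set Y₁).Nonempty :=
    ⟨((inv (φ₁ ∣_ U)) ⟨u, hu⟩).1, ((inv (φ₁ ∣_ U)) ⟨u, hu⟩).2⟩
  obtain ⟨Z, r, n, g, hr, hg⟩ := K481.ElimOpen.exists_elim_open hX₁ (isProjectiveOver k (φ₂ ≫ p) hproj₂)
    (φ₁ ⁻¹ᵁ U) hU₁ φ (by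
      change φ ≫ φ₂ ≫ p = (φ₁ ⁻¹ᵁ U).ι ≫ φ₁ ≫ p
      rw [← Category.assoc, hφφ, Category.assoc])
  have hZ := hr.source hX₁
  have hZi : IsIntegral Z.left := hZ.isIntegral
  have hY₁i : IsIntegral (Over.mk (φ₁ ≫ p)).left := hY₁
  have hbir := isBir_rchain hr hX₁
  have hw1 : r.left ≫ φ₁ ≫ p = Z.hom := Over.w r
  have hw2 : g.left ≫ φ₂ ≫ p = Z.hom := Over.w g
  let r' : Z.left ⟶ Y₁ := r.left
  let g' : Z.left ⟶ Y₂ := g.left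
  have hb : CurvesC.SpreadIso.IsBir r' := ⟨hbir.gen, hbir.bir⟩
  have hp : IsProper r' := hbir.proper
  have hgU : genericPoint Y₁ ∈ φ₁ ⁻¹ᵁ U :=
    ((genericPoint_spec Y₁).mem_open_set_iff (φ₁ ⁻¹ᵁ U).isOpen).mpr (by simpa using hU₁)
  have hW : ((r' ⁻¹ᵁ (φ₁ ⁻¹ᵁ U) : Z.left.Opens) : Set Z.left).Nonempty := by
    refine ⟨genericPoint Z.left, ?_⟩
    change r' (genericPoint Z.left) ∈ φ₁ ⁻¹ᵁ U
    rw [hb.gen]
    exact hgU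
  have hcomp : r' ≫ φ₁ = g' ≫ φ₂ := comp_eq p φ₁ φ₂ r' g' (φ₁ ⁻¹ᵁ U) φ hφφ hW hg (hw1.trans hw2.symm)
  refine ⟨Z.left, r', g', hcomp, hZi, by
    have := hZ.proper
    rw [← hw1] at this
    exact this, hZ.dim, hZ.regular, ?_⟩
  obtain ⟨V₁, hV₁, hV₁iso⟩ := CurvesC.SpreadIso.exists_isIso hb (fun y => by
    have := hreg₁ y
    exact CurvesC.RegNormal.isIntegrallyClosed (Y₁.presheaf.stalk y)) (genericPoint Y₁)
      (inferInstanceAs (ValuationRing Y₁.functionField))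
  exact exists_iso_locus φ₁ r' U hgU V₁ hV₁

end K457.Dom
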