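import Groth.Agent.Surf.K457.Mumford
import Groth.Agent.Surf.K457.PicFin
import Groth.Agent.Surf.K457.Bir
import Groth.Agent.Surf.K457.Bridge

/-!
# Resolutions of a surface: exceptional curves, comparison of two resolutions
-/

set_option autoImplicit false
set_option linter.unusedSectionVars false
universe u
open CategoryTheory CategoryTheory.Limits AlgebraicGeometry TopologicalSpace

namespace K457.ResSide

open Groth.Agent Groth.Agent.Grpsch.PicGrp Groth.Agent.Divis.CartierBasic Groth.Agent.Dix.IdealModCartier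
  K464.Base K464.Curves K464.DivLat

section side

variable {X Y : Scheme.{u}} (φ : Y ⟶ X) (U : X.Opens) [IsIso (φ ∣_ U)]

/-- Contracted curves lie over the complement of the isomorphism locus. -/
theorem notMem_of_image {E : Y.IdealSheafData} (hE : IsCurve E) (h : ∃ x : X, φ '' (E.support : Set Y) = {x})
    (y : Y) (hy : y ∈ E.support) : φ y ∉ U := by
  intro hj
  obtain ⟨x, hx⟩ := h
  have hab : ∀ y ∈ E.support, φ y = x := fun y hy => by
    have : φ y ∈ φ '' (E.support : Set Y) := ⟨y, hy, rfl⟩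
    rw [hx] at this
    exact this
  have hxU : x ∈ U := by rw [← hab _ hy]; exact hj
  have hsub : (E.support : Set Y).Subsingleton := by
    intro a ha b hb
    exact Vancyc.H175.DimBir.injOn_of_isIso φ U (by rw [hab a ha]; exact hxU) ((hab a ha).trans (hab b hb).symm)
  have := hE.dim
  have hsub' : Subsingleton (E.support : Set Y) := hsub.coe_sort
  have h1 := topologicalKrullDim_zero_of_discreteTopology (E.support : Set Y)
  rw [this] at h1
  exact absurd h1 (by decide)

omit [IsIso (φ ∣_ U)] in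
/-- A curve whose generic point lies over a closed point is contracted. -/
theorem image_eq {D : Y.IdealSheafData} (hD : IsCurve D) (h : IsClosed ({φ (gp hD)} : Set X)) :
    φ '' (D.support : Set Y) = {φ (gp hD)} := by
  apply Set.eq_singleton_iff_unique_mem.mpr
  refine ⟨⟨_, gp_mem hD, rfl⟩, ?_⟩
  rintro _ ⟨y, hy, rfl⟩
  have h1 : y ∈ closure {gp hD} := by
    rw [closure_gp hD]
    exact hy
  have h2 := (specializes_iff_mem_closure.mpr h1).map φ.continuous
  have h3 := specializes_iff_mem_closure.mp h2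
  rw [h.closure_eq] at h3
  exact h3

omit [IsIso (φ ∣_ U)] in
theorem exists_eq {ι : Type} {μ : ι → Y.IdealSheafData} (hC : ∀ i, IsCurve (μ i))
    (hall : ∀ E : Y.IdealSheafData, IsIntegral E.subscheme → topologicalKrullDim (E.support : Set Y) = 1 →
      (∃ x : X, φ '' (E.support : Set Y) = {x}) → ∃ j, (E.support : Set Y) = (μ j).support)
    (hcl : ∀ x ∉ U, IsClosed ({x} : Set X)) {D : Y.IdealSheafData} (hD : IsCurve D) (h : φ (gp hD) ∉ U) :
    ∃ j, D = μ j := by
  obtain ⟨j, hj⟩ := hall D hD.integral hD.dim ⟨_, image_eq φ hD (hcl _ h)⟩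
  exact ⟨j, eq_of_gp_mem hD (hC j) (by
    have h4 : gp hD ∈ (D.support : Set Y) := gp_mem hD
    rw [hj] at h4
    exact h4)⟩

omit [IsIso (φ ∣_ U)] in
theorem ne_of_image {P' E : Y.IdealSheafData} {P : X.IdealSheafData}
    (hP : topologicalKrullDim (P.support : Set X) = 1) (himg : φ '' (P'.support : Set Y) = P.support)
    (hE : ∃ x : X, φ '' (E.support : Set Y) = {x}) : P' ≠ E := by
  rintro rfl
  obtain ⟨x, hx⟩ := hE
  have h1 : (P.support : Set X) = {x} := himg.symm.trans hx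
  rw [h1] at hP
  have h2 := topologicalKrullDim_zero_of_discreteTopology ({x} : Set X)
  rw [hP] at h2
  exact absurd h2 (by decide)

/-- Total transforms over the isomorphism locus. -/
theorem stalkIdeal_tot {Z : Scheme.{u}} (g : Z ⟶ Y) {ι : Type} [Fintype ι] {μ : ι → Y.IdealSheafData}
    (hC : ∀ i, IsCurve (μ i)) (hpt : ∀ j, ∃ x : X, φ '' ((μ j).support : Set Y) = {x})
    {P : X.IdealSheafData} (hP : IsCurve P) {P' : Y.IdealSheafData} (hP' : IsCurve P')
    (himg : φ '' (P'.support : Set Y) = P.support) (N : ℕ) (s : ι → ℕ) (z : Z) (hz : φ (g z) ∈ U) :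
    stalkIdeal ((P' ^ N * cyc μ s).comap g) z = stalkIdeal (P.comap (g ≫ φ)) z ^ N := by
  have h1 : stalkIdeal (cyc μ s) (g z) = ⊤ := by
    refine stalkIdeal_eq_top fun hmem => ?_
    obtain ⟨j, hj⟩ := Set.mem_iUnion.mp (support_cyc_subset s hmem)
    exact notMem_of_image φ U (hC j) (hpt j) (g z) hj hz
  rw [Divis.CartierStalk.stalkIdeal_comap, stalkIdeal_mul, stalkIdeal_pow, h1, Ideal.mul_top,
    K457.Strict.stalkIdeal_strict φ U hP hP' himg (g z) hz, Ideal.map_pow, ← Divis.CartierStalk.stalkIdeal_comap,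
    Scheme.IdealSheafData.comap_comp]

end side

section dom

variable (k : Type u) [Field k]

theorem genericPoint_notMem {X : Scheme.{u}} [IsIntegral X] [IsLocallyNoetherian X] {C : X.IdealSheafData}
    (hEC : BlowUp.IsEffCartierIdeal C) : genericPoint X ∉ C.support := by
  rw [notMem_support_iff_stalkIdeal_eq_top]
  obtain ⟨g, hg, hDg⟩ := (isEffCartierIdeal_iff_stalkIdeal C).mp hEC (genericPoint X)
  rw [hDg, Ideal.span_singleton_eq_top]
  have hg0 : (g : X.functionField) ≠ 0 := nonZeroDivisors.ne_zero hg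
  exact IsUnit.mk0 (G₀ := X.functionField) g hg0

theorem isEff_comap {Y Z : Scheme.{u}} [IsIntegral Y] [IsLocallyNoetherian Y] [IsIntegral Z] (g : Z ⟶ Y)
    (hg : g (genericPoint Z) = genericPoint Y) {C : Y.IdealSheafData} (hEC : BlowUp.IsEffCartierIdeal C) :
    BlowUp.IsEffCartierIdeal (C.comap g) :=
  Dix.InterSurf.isEff_comap_of_generic g hEC (by rw [hg]; exact genericPoint_notMem hEC)

/-- Invariance of the intersection form. -/
theorem dot_pull {Y Z : Scheme.{u}} [Y.Over (Spec (CommRingCat.of k))] [Z.Over (Spec (CommRingCat.of k))]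
    [IsProper (Y ↘ Spec (CommRingCat.of k))] [IsProper (Z ↘ Spec (CommRingCat.of k))] [IrreducibleSpace Y]
    (g : Z ⟶ Y) (hg : g ≫ (Y ↘ Spec (CommRingCat.of k)) = Z ↘ Spec (CommRingCat.of k))
    (hY : topologicalKrullDim Y = 2) (hZ : topologicalKrullDim Z = 2) (V : Y.Opens) (hV : (V : Set Y).Nonempty)
    [IsIso (g ∣_ V)] (a b : Pic Y) : dot k Z (pull g a) (pull g b) = dot k Y a b := by
  have h := K457.Bir.B_pull k g hg hY.le hZ.le V hV a b
  rwa [K457.Bridge.B_eq hZ.le, K457.Bridge.B_eq hY.le] at h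

theorem dot_agree {Y₁ Y₂ Z : Scheme.{u}} [IsIntegral Z] [Z.Over (Spec (CommRingCat.of k))]
    [IsProper (Z ↘ Spec (CommRingCat.of k))] (hdim : topologicalKrullDim Z = 2)
    (hreg : ∀ z : Z, IsRegularLocalRing (Z.presheaf.stalk z)) (g₁ : Z ⟶ Y₁) (g₂ : Z ⟶ Y₂)
    {I₁ : Y₁.IdealSheafData} {I₂ : Y₂.IdealSheafData} (hI₁ : BlowUp.IsEffCartierIdeal I₁)
    (hI₂ : BlowUp.IsEffCartierIdeal I₂) (hI₁' : BlowUp.IsEffCartierIdeal (I₁.comap g₁))
    (hI₂' : BlowUp.IsEffCartierIdeal (I₂.comap g₂)) (W : Set Z) (J : Z.IdealSheafData) (N₁ N₂ : ℕ)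
    (h₁ : ∀ z ∈ W, stalkIdeal (I₁.comap g₁) z = stalkIdeal J z ^ N₁)
    (h₂ : ∀ z ∈ W, stalkIdeal (I₂.comap g₂) z = stalkIdeal J z ^ N₂) (m : Pic Z)
    (hm : ∀ (C : Z.IdealSheafData) (hC : IsCurve C), gp hC ∉ W → degOn k Z C m = 0) :
    dot k Z (pull g₁ (ic I₁ hI₁) ^ N₂) m = dot k Z (pull g₂ (ic I₂ hI₂) ^ N₁) m := by
  rw [K457.Total.pull_ic g₁ hI₁ hI₁', K457.Total.pull_ic g₂ hI₂ hI₂', ← ic_pow hI₁', ← ic_pow hI₂']
  refine K457.NumDiff.dot_eq_of_agree hdim hreg _ _ m fun C hC => ?_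
  by_cases hW : gp hC ∈ W
  · left
    rw [stalkIdeal_pow, stalkIdeal_pow, h₁ _ hW, h₂ _ hW, ← pow_mul, ← pow_mul, mul_comm]
  · right
    exact hm C hC hW

end dom

end K457.ResSide
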