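import Groth.Agent.Surf.K464.DivLat
import Groth.Agent.Divis.StalkPrime

/-!
# Intersections of distinct integral curves are products; Euler characteristic of a reduced curve

* `inf_eq_mul`, `iInf_eq_prod`: `⨅ C_i = ∏ C_i`;
* `chi_prod`: `χ(1) - χ(∏ c_i) = ∑ (χ(1) - χ(c_i)) - ∑_{i<j} (c_i · c_j)`.
-/

set_option autoImplicit false
universe u
open CategoryTheory CategoryTheory.Limits AlgebraicGeometry

namespace K457.InfProd

open Groth.Agent Groth.Agent.Grpsch.PicGrp Groth.Agent.Divis.CartierBasic K464.Base K464.Curves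

variable {X : Scheme.{u}}

/-- If the stalk ideal of `D` at a point of the curve `C` is contained in that of `C`, then `C` is contained in
`D`. -/
theorem gp_mem_of_stalkIdeal_le {C D : X.IdealSheafData} (hC : IsCurve C) {x : X} (hx : x ∈ C.support)
    (h : stalkIdeal D x ≤ stalkIdeal C x) : gp hC ∈ D.support := by
  have h1 : gp hC ⤳ x := by
    rw [specializes_iff_mem_closure, closure_gp hC]
    exact hx
  have h2 : gp hC ∈ Set.range (X.fromSpecStalk x) := by
    rw [Scheme.range_fromSpecStalk]
    exact h1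
  obtain ⟨q, hq⟩ := h2
  have h3 := (fromSpecStalk_mem_support_iff C x q).mp (by rw [hq]; exact gp_mem hC)
  have h4 := (fromSpecStalk_mem_support_iff D x q).mpr (h.trans h3)
  rwa [hq] at h4

theorem inf_eq_mul {C D : X.IdealSheafData} (hC : IsCurve C) (hD : BlowUp.IsEffCartierIdeal D)
    [IsLocallyNoetherian X] (h : gp hC ∉ D.support) : C ⊓ D = C * D := by
  have := hC.integral
  refine le_antisymm (le_of_stalkIdeal fun x => ?_)
    (le_inf (K464.DivLat.mul_le_left C D) (K464.DivLat.mul_le_right' C D))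
  intro s hs
  have hsC : s ∈ stalkIdeal C x := stalkIdeal_mono inf_le_left x hs
  have hsD : s ∈ stalkIdeal D x := stalkIdeal_mono inf_le_right x hs
  rw [stalkIdeal_mul]
  by_cases hx : x ∈ C.support
  · have hp := Divis.StalkPrime.isPrime_stalkIdeal C hx
    obtain ⟨d, hd, hDd⟩ := (isEffCartierIdeal_iff_stalkIdeal D).mp hD x
    have hdC : d ∉ stalkIdeal C x := fun hdC => h (gp_mem_of_stalkIdeal_le hC hx (by
      rw [hDd, Ideal.span_singleton_le_iff_mem]
      exact hdC))
    rw [hDd] at hsD ⊢
    obtain ⟨t, rfl⟩ := Ideal.mem_span_singleton'.mp hsD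
    have ht : t ∈ stalkIdeal C x := (hp.mem_or_mem hsC).resolve_right hdC
    exact Ideal.mul_mem_mul ht (Ideal.mem_span_singleton_self d)
  · rw [(notMem_support_iff_stalkIdeal_eq_top C x).mp hx, Ideal.top_mul]
    exact hsD

theorem finset_inf_eq_prod {ι : Type*} [IsLocallyNoetherian X] (C : ι → X.IdealSheafData) (hC : ∀ i, IsCurve (C i))
    (hE : ∀ i, BlowUp.IsEffCartierIdeal (C i)) (hinj : Function.Injective C) (s : Finset ι) :
    s.inf C = ∏ i ∈ s, C i := by
  classical
  induction s using Finset.induction_on with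
  | empty =>
    rw [Finset.inf_empty, Finset.prod_empty, Scheme.IdealSheafData.one_eq_top]
  | insert i s hi ih =>
    rw [Finset.inf_insert, Finset.prod_insert hi, ih]
    refine inf_eq_mul (hC i) (isEff_prod s C hE) ?_
    rw [notMem_support_iff_stalkIdeal_eq_top, K464.DivLat.stalkIdeal_prod]
    rw [Finset.prod_eq_one, Ideal.one_eq_top]
    intro j hj
    have hne : C i ≠ C j := fun h => hi (hinj h ▸ hj)
    rw [(notMem_support_iff_stalkIdeal_eq_top _ _).mp (gp_notMem (hC i) (hC j) hne), Ideal.one_eq_top]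

theorem iInf_eq_prod {ι : Type*} [Fintype ι] [IsLocallyNoetherian X] (C : ι → X.IdealSheafData)
    (hC : ∀ i, IsCurve (C i)) (hE : ∀ i, BlowUp.IsEffCartierIdeal (C i)) (hinj : Function.Injective C) :
    ⨅ i, C i = ∏ i, C i := by
  rw [← finset_inf_eq_prod C hC hE hinj, Finset.inf_univ_eq_iInf]

section chi

variable {k : Type u} [Field k] [X.Over (Spec (CommRingCat.of k))] [IsProper (X ↘ Spec (CommRingCat.of k))]

theorem chi_prod_aux (hdim : topologicalKrullDim X ≤ (2 : ℕ)) {n : ℕ} (c : Fin n → Pic X) (s : Finset (Fin n)) :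
    chi k X 1 - chi k X (∏ i ∈ s, c i) = ∑ i ∈ s, (chi k X 1 - chi k X (c i)) -
      ∑ i ∈ s, ∑ j ∈ s, if i < j then dot k X (c i) (c j) else 0 := by
  classical
  induction s using Finset.induction_on_max with
  | empty => simp
  | insert a s ha ih =>
    have hna : a ∉ s := fun h => lt_irrefl _ (ha a h)
    rw [Finset.prod_insert hna, Finset.sum_insert hna, Finset.sum_insert hna]
    have h1 : ∑ j ∈ insert a s, (if a < j then dot k X (c a) (c j) else 0) = 0 := by
      refine Finset.sum_eq_zero fun j hj => if_neg ?_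
      rcases Finset.mem_insert.mp hj with rfl | hj
      · exact lt_irrefl _
      · exact not_lt.mpr (ha j hj).le
    have h2 : ∑ i ∈ s, ∑ j ∈ insert a s, (if i < j then dot k X (c i) (c j) else 0) =
        ∑ i ∈ s, dot k X (c i) (c a) + ∑ i ∈ s, ∑ j ∈ s, (if i < j then dot k X (c i) (c j) else 0) := by
      rw [← Finset.sum_add_distrib]
      refine Finset.sum_congr rfl fun i hi => ?_
      rw [Finset.sum_insert hna, if_pos (ha i hi)]
    rw [h1, h2, chi_mul, dot_prod_right k X hdim]
    have h3 : ∑ i ∈ s, dot k X (c a) (c i) = ∑ i ∈ s, dot k X (c i) (c a) :=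
      Finset.sum_congr rfl fun i _ => dot_comm k X _ _
    rw [h3]
    linarith

theorem chi_prod (hdim : topologicalKrullDim X ≤ (2 : ℕ)) {n : ℕ} (c : Fin n → Pic X) :
    chi k X 1 - chi k X (∏ i, c i) = ∑ i, (chi k X 1 - chi k X (c i)) -
      ∑ i, ∑ j, if i < j then dot k X (c i) (c j) else 0 := chi_prod_aux hdim c Finset.univ

end chi

end K457.InfProd
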