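import Mathlib.Combinatorics.SimpleGraph.Acyclic
import Mathlib.Topology.Connected.Clopen
import Mathlib.Tactic

/-!
# Counting intersections of a connected union of closed sets
-/

set_option autoImplicit false

namespace K457.Tree

open Finset

variable {T : Type*} [TopologicalSpace T] {n : ℕ}

/-- The incidence graph. -/
def graph (S : Fin n → Set T) : SimpleGraph (Fin n) where
  Adj i j := i ≠ j ∧ ¬ Disjoint (S i) (S j)
  symm := ⟨fun _ _ h => ⟨h.1.symm, fun hd => h.2 hd.symm⟩⟩
  loopless := ⟨fun _ h => h.1 rfl⟩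

theorem connected (S : Fin n → Set T) (hcl : ∀ i, IsClosed (S i)) (hne : ∀ i, (S i).Nonempty)
    (hc : IsConnected (⋃ i, S i)) : (graph S).Connected := by
  obtain ⟨x, hx⟩ := hc.1
  obtain ⟨i₀, hi₀⟩ := Set.mem_iUnion.mp hx
  have key : ∀ i, (graph S).Reachable i₀ i := by
    by_contra hcon
    push Not at hcon
    obtain ⟨j₀, hj₀⟩ := hcon
    let A : Set T := ⋃ i ∈ {i | (graph S).Reachable i₀ i}, S i
    let B : Set T := ⋃ i ∈ {i | ¬ (graph S).Reachable i₀ i}, S i
    have hA : IsClosed A := Set.Finite.isClosed_biUnion (Set.toFinite _) fun i _ => hcl i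
    have hB : IsClosed B := Set.Finite.isClosed_biUnion (Set.toFinite _) fun i _ => hcl i
    have h1 := isPreconnected_closed_iff.mp hc.2 A B hA hB (by
      intro y hy
      obtain ⟨i, hi⟩ := Set.mem_iUnion.mp hy
      by_cases h : (graph S).Reachable i₀ i
      · exact Or.inl (Set.mem_biUnion (show i ∈ {i | (graph S).Reachable i₀ i} from h) hi)
      · exact Or.inr (Set.mem_biUnion (show i ∈ {i | ¬ (graph S).Reachable i₀ i} from h) hi))
      ⟨x, hx, Set.mem_biUnion (show i₀ ∈ {i | (graph S).Reachable i₀ i} from SimpleGraph.Reachable.refl _) hi₀⟩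
      (by
        obtain ⟨y, hy⟩ := hne j₀
        exact ⟨y, Set.mem_iUnion.mpr ⟨j₀, hy⟩, Set.mem_biUnion (show j₀ ∈ {i | ¬ (graph S).Reachable i₀ i} from hj₀) hy⟩)
    obtain ⟨y, -, hyA, hyB⟩ := h1
    obtain ⟨i, hi, hyi⟩ := Set.mem_iUnion₂.mp hyA
    obtain ⟨j, hj, hyj⟩ := Set.mem_iUnion₂.mp hyB
    have hij : i ≠ j := by
      rintro rfl
      exact hj hi
    have hadj : (graph S).Adj i j := ⟨hij, fun hd => Set.disjoint_left.mp hd hyi hyj⟩
    exact hj (SimpleGraph.Reachable.trans hi hadj.reachable)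
  exact { preconnected := fun a b => (key a).symm.trans (key b), nonempty := ⟨i₀⟩ }

/-- `n - 1 ≤ Σ_{i<j} w i j` for a connected union of `n` closed sets, if `w i j ≥ 0`, and `w i j ≥ 1` when
`S i` and `S j` meet. -/
theorem le_sum (S : Fin n → Set T) (hcl : ∀ i, IsClosed (S i)) (hne : ∀ i, (S i).Nonempty)
    (hc : IsConnected (⋃ i, S i)) (w : Fin n → Fin n → ℤ) (h0 : ∀ i j, i ≠ j → 0 ≤ w i j)
    (h1 : ∀ i j, i ≠ j → ¬ Disjoint (S i) (S j) → 1 ≤ w i j) :
    (n : ℤ) - 1 ≤ ∑ i : Fin n, ∑ j : Fin n, if i < j then w i j else 0 := by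
  classical
  have hconn := connected S hcl hne hc
  have hcard := hconn.card_vert_le_card_edgeSet_add_one
  rw [Nat.card_eq_fintype_card, Fintype.card_fin] at hcard
  let P : Finset (Fin n × Fin n) := Finset.univ.filter fun p => p.1 < p.2 ∧ (graph S).Adj p.1 p.2
  have hP : Nat.card (graph S).edgeSet ≤ P.card := by
    have hf : ∀ p : {p // p ∈ P}, s(p.1.1, p.1.2) ∈ (graph S).edgeSet := fun p =>
      (Finset.mem_filter.mp p.2).2.2
    have h3 := Nat.card_le_card_of_surjective
      (fun p : {p // p ∈ P} => (⟨s(p.1.1, p.1.2), hf p⟩ : (graph S).edgeSet)) (by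
        rintro ⟨e, he⟩
        induction e using Sym2.ind with | _ a b => ?_
        have hab : (graph S).Adj a b := he
        rcases lt_or_gt_of_ne hab.1 with hlt | hlt
        · exact ⟨⟨(a, b), Finset.mem_filter.mpr ⟨Finset.mem_univ _, hlt, hab⟩⟩, rfl⟩
        · exact ⟨⟨(b, a), Finset.mem_filter.mpr ⟨Finset.mem_univ _, hlt, hab.symm⟩⟩,
            Subtype.ext Sym2.eq_swap⟩)
    rwa [Nat.card_eq_fintype_card (α := {p // p ∈ P}), Fintype.card_coe] at h3
  have hsum : (P.card : ℤ) ≤ ∑ i : Fin n, ∑ j : Fin n, if i < j then w i j else 0 := by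
    rw [← Fintype.sum_prod_type' (f := fun i j => if i < j then w i j else 0), Finset.card_filter]
    push_cast
    refine Finset.sum_le_sum fun p _ => ?_
    by_cases hlt : p.1 < p.2
    · rw [if_pos hlt]
      by_cases hadj : (graph S).Adj p.1 p.2
      · rw [if_pos ⟨hlt, hadj⟩]
        exact h1 _ _ hadj.1 hadj.2
      · rw [if_neg (fun h => hadj h.2)]
        exact h0 _ _ hlt.ne
    · rw [if_neg hlt, if_neg (fun h => hlt h.1)]
  have : (Nat.card (graph S).edgeSet : ℤ) ≤ P.card := by exact_mod_cast hP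
  have h2 : (n : ℤ) ≤ Nat.card (graph S).edgeSet + 1 := by exact_mod_cast hcard
  linarith

end K457.Tree
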