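import Groth.Agent.Surf.K457.Dual
import Groth.Agent.PerfB.DualMod
import Groth.Agent.S3635

/-!
# Serre duality on smooth proper schemes over a field
-/

set_option autoImplicit false

universe u

open CategoryTheory CategoryTheory.Limits AlgebraicGeometry Pretriangulated TopologicalSpace

attribute [local instance] HasDerivedCategory.standard

namespace K457.DualSm

open Groth.Agent Groth.Agent.CurvesC Groth.Agent.PerfA K457.Dual

/-- For `X` smooth and proper of relative dimension `d` over a field, `∧^d Ω` is a dualizing module. -/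
theorem isSD (k : Type u) [Field k] (X : Scheme.{u}) [X.Over (Spec (CommRingCat.of k))]
    [IsProper (X ↘ Spec (CommRingCat.of k))] (d : ℕ)
    [SmoothOfRelativeDimension d (X ↘ Spec (CommRingCat.of k))]
    (W : X.Modules) (hW : ExtPow.IsExtPow d (Omega.sheaf (X ↘ Spec (CommRingCat.of k))) W) :
    IsSD k W d := by
  have hR := Dcoh.DerSch.hasRpush (X ↘ Spec (CommRingCat.of k))
  have h : DCoh.RpushPreservesQCoh (X ↘ Spec (CommRingCat.of k)) := fun K hK =>
    S0998.result (X ↘ Spec (CommRingCat.of k)) K hK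
  have hc : CompactSpace X := by
    have := QuasiCompact.compactSpace_of_compactSpace (X ↘ Spec (CommRingCat.of k))
    exact this
  have hq : QuasiSeparatedSpace X :=
    quasiSeparatedSpace_of_quasiSeparated (X ↘ Spec (CommRingCat.of k))
  have hs : DCoh.HasShriek (X ↘ Spec (CommRingCat.of k)) h :=
    S1766.result X (Spec (CommRingCat.of k)) (X ↘ Spec (CommRingCat.of k)) h
  have hO : Coh.IsCoh (Coh.structureModule (Spec (CommRingCat.of k))) :=
    CurvesB.UnitCoh.isCoh_structureModule _
  let OY : DCoh.DQCoh (Spec (CommRingCat.of k)) :=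
    ⟨DCoh.inD _ (Coh.structureModule (Spec (CommRingCat.of k))), QCohD.isQCohD_inD _ hO.1⟩
  obtain ⟨τ, hτ⟩ := DualLin.exists_form k X h OY ⟨Iso.refl _⟩
  obtain ⟨e⟩ := S3635.result (Spec (CommRingCat.of k)) X d (X ↘ Spec (CommRingCat.of k)) h _
    (DCoh.shriekAdj (X ↘ Spec (CommRingCat.of k)) h) OY ⟨Iso.refl _⟩ W hW
  exact isSD_of_iso e.symm τ hτ

end K457.DualSm
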