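import Groth.Agent.Surf.K457.Strict
import Groth.Agent.Surf.K464.NegDef
import Mathlib.Data.Matrix.Mul

/-!
# Mumford's rational pull-back on a resolution: integral multiples of total transforms
-/

set_option autoImplicit false
set_option linter.unusedSectionVars false
universe u
open CategoryTheory CategoryTheory.Limits AlgebraicGeometry TopologicalSpace
open scoped Matrix

namespace K457.Mumford

open Groth.Agent Groth.Agent.Grpsch.PicGrp Groth.Agent.Divis.CartierBasic Groth.Agent.Dix.IdealModCartier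
  K464.Base K464.Curves K464.DivLat K464.NegDef

variable (k : Type u) [Field k] {Y : Scheme.{u}} [Y.Over (Spec (CommRingCat.of k))]
  [IsProper (Y ↘ Spec (CommRingCat.of k))] (hd : topologicalKrullDim Y ≤ (2 : ℕ))
  {ι : Type} [Fintype ι] {μ : ι → Y.IdealSheafData} (hC : ∀ i, IsCurve (μ i))
  (hE : ∀ i, BlowUp.IsEffCartierIdeal (μ i)) (hinj : Function.Injective μ)

theorem isNegDef_of_rat (d : Matrix ι ι ℚ) (G : ι → ι → ℤ) (hG : ∀ a b, d a b = (G a b : ℚ))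
    (hneg : ∀ w : ι → ℚ, w ≠ 0 → w ⬝ᵥ (d *ᵥ w) < 0) : IsNegDef G := by
  intro a ha
  have h := hneg (fun i => (a i : ℚ)) (by
    intro h0
    apply ha
    funext i
    have h1 : (a i : ℚ) = 0 := congrFun h0 i
    exact_mod_cast h1)
  have h1 : (fun i => (a i : ℚ)) ⬝ᵥ (d *ᵥ fun i => (a i : ℚ)) = ((∑ i, ∑ j, a i * a j * G i j : ℤ) : ℚ) := by
    push_cast
    unfold dotProduct Matrix.mulVec dotProduct
    refine Finset.sum_congr rfl fun i _ => ?_
    rw [Finset.mul_sum]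
    refine Finset.sum_congr rfl fun j _ => ?_
    have h2 : d i j = (G i j : ℚ) := hG i j
    change (a i : ℚ) * (d i j * (a j : ℚ)) = (a i : ℚ) * (a j : ℚ) * (G i j : ℚ)
    rw [h2]
    ring
  rw [h1] at h
  exact_mod_cast h

/-- `N P + ∑ s_i μ_i` is orthogonal to all the `μ_j`. -/
def IsTot {P : Y.IdealSheafData} (hPE : BlowUp.IsEffCartierIdeal P) (N : ℕ) (s : ι → ℕ) : Prop :=
  ∀ j, (N : ℤ) * dot k Y (ic P hPE) (ic (μ j) (hE j)) + ∑ i, (s i : ℤ) * gram k hE i j = 0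

include hC hinj in
theorem exists_tot (hneg : IsNegDef (gram k hE)) {P : Y.IdealSheafData} (hP : IsCurve P)
    (hPE : BlowUp.IsEffCartierIdeal P) (hne : ∀ i, P ≠ μ i) :
    ∃ (N : ℕ) (s : ι → ℕ), 0 < N ∧ IsTot k hE hPE N s := by
  classical
  obtain ⟨N, s, hN, hs⟩ := exists_orthogonal hneg (fun j => dot k Y (ic P hPE) (ic (μ j) (hE j)))
  have h0 : ∀ j, 0 ≤ dot k Y (ic P hPE) (ic (μ j) (hE j)) := fun j =>
    dot_ic_ic_nonneg k hP hPE (hE j) (gp_notMem hP (hC j) (hne j))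
  have hs0 : ∀ i, 0 ≤ s i := nonneg_of_row_nonpos (gram_nonneg k hE hC hinj) hneg s (fun j => by
    rw [hs j]
    have := mul_nonneg (Int.natCast_nonneg N) (h0 j)
    linarith)
  refine ⟨N, fun i => (s i).toNat, hN, fun j => ?_⟩
  have h1 : ∑ i, (((s i).toNat : ℕ) : ℤ) * gram k hE i j = ∑ i, s i * gram k hE i j :=
    Finset.sum_congr rfl fun i _ => by rw [Int.toNat_of_nonneg (hs0 i)]
  rw [h1, hs j]
  ring

include hE in
theorem isEff_tot {P : Y.IdealSheafData} (hPE : BlowUp.IsEffCartierIdeal P) (N : ℕ) (s : ι → ℕ) :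
    BlowUp.IsEffCartierIdeal (P ^ N * cyc μ s) :=
  Divis.EffCartier.isEff_mul (Divis.EffCartier.isEff_pow hPE N) (isEff_cyc hE s)

/-- The class of `N P + ∑ s_i μ_i`. -/
noncomputable def tot {P : Y.IdealSheafData} (hPE : BlowUp.IsEffCartierIdeal P) (N : ℕ) (s : ι → ℕ) : Pic Y :=
  ic (P ^ N * cyc μ s) (isEff_tot hE hPE N s)

theorem tot_eq {P : Y.IdealSheafData} (hPE : BlowUp.IsEffCartierIdeal P) (N : ℕ) (s : ι → ℕ) :
    tot hE hPE N s = ic P hPE ^ N * ∏ i, ic (μ i) (hE i) ^ s i := by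
  unfold tot
  rw [ic_mul (Divis.EffCartier.isEff_pow hPE N) (isEff_cyc hE s), ic_pow hPE, ic_cyc hE]

include hd in
theorem dot_tot {P : Y.IdealSheafData} (hPE : BlowUp.IsEffCartierIdeal P) (N : ℕ) (s : ι → ℕ) (c : Pic Y) :
    dot k Y (tot hE hPE N s) c = N * dot k Y (ic P hPE) c + ∑ i, (s i : ℤ) * dot k Y (ic (μ i) (hE i)) c := by
  rw [tot_eq, dot_mul_left k Y hd, dot_pow_left k Y hd, dot_prod_left k Y hd]
  congr 1
  exact Finset.sum_congr rfl fun i _ => dot_pow_left k Y hd _ _ _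

include hd in
theorem dot_tot_μ {P : Y.IdealSheafData} (hPE : BlowUp.IsEffCartierIdeal P) {N : ℕ} {s : ι → ℕ}
    (h : IsTot k hE hPE N s) (j : ι) : dot k Y (tot hE hPE N s) (ic (μ j) (hE j)) = 0 := by
  rw [dot_tot k hd]
  exact h j

include hd in
theorem degOn_tot {P : Y.IdealSheafData} (hPE : BlowUp.IsEffCartierIdeal P) {N : ℕ} {s : ι → ℕ}
    (h : IsTot k hE hPE N s) (j : ι) : degOn k Y (μ j) (tot hE hPE N s) = 0 := by
  rw [degOn_eq_neg_dot k Y (hE j), dot_comm, dot_tot_μ k hd hE hPE h, neg_zero]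

include hd in
/-- The rational intersection number. -/
theorem dot_tot_tot [DecidableEq ι] {P Q : Y.IdealSheafData} (hPE : BlowUp.IsEffCartierIdeal P) (hQE : BlowUp.IsEffCartierIdeal Q)
    {N M : ℕ} {s t : ι → ℕ} (hs : IsTot k hE hPE N s) (ht : IsTot k hE hQE M t) (d e : Matrix ι ι ℚ)
    (hdG : ∀ a b, d a b = (gram k hE a b : ℚ)) (he : e * (-d) = 1) (vP vQ : ι → ℚ)
    (hvP : ∀ b, vP b = (dot k Y (ic P hPE) (ic (μ b) (hE b)) : ℚ))
    (hvQ : ∀ b, vQ b = (dot k Y (ic Q hQE) (ic (μ b) (hE b)) : ℚ)) :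
    (dot k Y (tot hE hPE N s) (tot hE hQE M t) : ℚ) =
      N * M * ((dot k Y (ic P hPE) (ic Q hQE) : ℚ) + vP ⬝ᵥ (e *ᵥ vQ)) := by
  have h1 : (-d) *ᵥ (fun i => (t i : ℚ)) = (M : ℚ) • vQ := by
    funext j
    have h2 := ht j
    have h3 : (((M : ℤ) * dot k Y (ic Q hQE) (ic (μ j) (hE j)) + ∑ i, (t i : ℤ) * gram k hE i j : ℤ) : ℚ) = 0 := by
      rw [h2]
      norm_num
    push_cast at h3
    rw [← hvQ j] at h3
    rw [Matrix.neg_mulVec, Pi.neg_apply, Pi.smul_apply, smul_eq_mul, Matrix.mulVec, dotProduct]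
    have h4 : ∑ i, d j i * (t i : ℚ) = ∑ i, (t i : ℚ) * (gram k hE i j : ℚ) :=
      Finset.sum_congr rfl fun i _ => by rw [hdG, gram_comm, mul_comm]
    rw [h4]
    linarith
  have h2 : (fun i => (t i : ℚ)) = (M : ℚ) • (e *ᵥ vQ) := by
    rw [← Matrix.mulVec_smul, ← h1, Matrix.mulVec_mulVec, he, Matrix.one_mulVec]
  have h3 : vP ⬝ᵥ (fun i => (t i : ℚ)) = M * (vP ⬝ᵥ (e *ᵥ vQ)) := by
    rw [h2, dotProduct_smul, smul_eq_mul]
  have h4 : dot k Y (tot hE hPE N s) (tot hE hQE M t) = N * dot k Y (ic P hPE) (tot hE hQE M t) := by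
    rw [dot_tot k hd]
    have : ∑ i, (s i : ℤ) * dot k Y (ic (μ i) (hE i)) (tot hE hQE M t) = 0 := by
      refine Finset.sum_eq_zero fun i _ => ?_
      rw [dot_comm, dot_tot_μ k hd hE hQE ht, mul_zero]
    rw [this, add_zero]
  have h5 : dot k Y (ic P hPE) (tot hE hQE M t) =
      M * dot k Y (ic P hPE) (ic Q hQE) + ∑ i, (t i : ℤ) * dot k Y (ic P hPE) (ic (μ i) (hE i)) := by
    rw [dot_comm, dot_tot k hd, dot_comm k Y (ic Q hQE)]
    congr 1
    exact Finset.sum_congr rfl fun i _ => by rw [dot_comm]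
  have h6 : ∑ i, (t i : ℚ) * (dot k Y (ic P hPE) (ic (μ i) (hE i)) : ℚ) = vP ⬝ᵥ (fun i => (t i : ℚ)) := by
    rw [dotProduct]
    exact Finset.sum_congr rfl fun i _ => by rw [hvP, mul_comm]
  rw [h4, h5]
  push_cast
  rw [h6, h3]
  ring

end K457.Mumford
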