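import Groth.Agent.Surf.K457.Total
import Groth.Agent.Surf.K464.DegCurve
import Groth.Agent.S7640
import Groth.Agent.Ega2.QCohLocal

/-!
# Intersection numbers of divisors that agree off contracted curves

* `degOn_pull`: `deg_C(g^* m) = [C : D] deg_D(m)` for a curve `C` dominating the curve `D`;
* `dot_eq_of_agree`: `(A·m) = (B·m)` if `A`, `B` agree at the generic point of every curve on which `m` has nonzero
  degree.
-/

set_option autoImplicit false
universe u
open CategoryTheory CategoryTheory.Limits AlgebraicGeometry TopologicalSpace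

namespace K457.NumDiff

open Groth.Agent Groth.Agent.Grpsch.PicGrp Groth.Agent.Divis.CartierBasic Groth.Agent.Dix.IdealModCartier
  K464.Base K464.Curves K464.DivLat K464.DegCurve

theorem degOn_pull (k : Type u) [Field k] {Y Z : Scheme.{u}} [Y.Over (Spec (CommRingCat.of k))]
    [Z.Over (Spec (CommRingCat.of k))] [IsProper (Y ↘ Spec (CommRingCat.of k))]
    [IsProper (Z ↘ Spec (CommRingCat.of k))] (g : Z ⟶ Y)
    (hg : g ≫ (Y ↘ Spec (CommRingCat.of k)) = Z ↘ Spec (CommRingCat.of k)) {C : Z.IdealSheafData} (hC : IsCurve C)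
    {D : Y.IdealSheafData} (hD : IsCurve D) (h : g (gp hC) = gp hD) (m : Pic Y) :
    ∃ d : ℕ, degOn k Z C (pull g m) = d * degOn k Y D m := by
  have := hC.integral
  have := hD.integral
  letI := overC k Z C
  letI := overC k Y D
  have hPC := isProper_sub k Z C
  have hPD := isProper_sub k Y D
  have hker : D.subschemeι.ker ≤ (C.subschemeι ≫ g).ker := by
    rw [Scheme.IdealSheafData.ker_subschemeι, Dix.VertGeom.le_ker_iff]
    change g (gp hC) ∈ D.support
    rw [h]
    exact gp_mem hD
  let q : C.subscheme ⟶ D.subscheme := IsClosedImmersion.lift D.subschemeι (C.subschemeι ≫ g) hker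
  have hq : q ≫ D.subschemeι = C.subschemeι ≫ g := IsClosedImmersion.lift_fac _ _ _
  have hqo : q ≫ (D.subscheme ↘ Spec (CommRingCat.of k)) = C.subscheme ↘ Spec (CommRingCat.of k) := by
    change q ≫ D.subschemeι ≫ (Y ↘ Spec (CommRingCat.of k)) = C.subschemeι ≫ (Z ↘ Spec (CommRingCat.of k))
    rw [← Category.assoc, hq, Category.assoc, hg]
  have hqg : q (genericPoint C.subscheme) = genericPoint D.subscheme := by
    apply D.subschemeι.isClosedEmbedding.injective
    rw [← Scheme.Hom.comp_apply, hq]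
    exact h
  refine ⟨q.residueDegree (genericPoint C.subscheme), ?_⟩
  rw [degOn_eq_degC, degOn_eq_degC, ← pull_comp, ← hq, pull_comp]
  obtain ⟨L, hL, rfl⟩ := exists_mk m
  rw [pull_mk D.subschemeι hL, pull_mk q (Fdesc.LocGen.isInvertible_pullback _ hL), degC_mk, degC_mk]
  exact S7640.result k C.subscheme D.subscheme ((dim_sub Z C).trans hC.dim) ((dim_sub Y D).trans hD.dim) q hqo hqg 1 _
    (Ega2.QCohLocal.isFinLocFreeOfRank_one_iff.mpr (Fdesc.LocGen.isInvertible_pullback _ hL))

theorem dot_eq_of_agree {k : Type u} [Field k] {X : Scheme.{u}} [X.Over (Spec (CommRingCat.of k))]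
    [IsProper (X ↘ Spec (CommRingCat.of k))] [IsIntegral X]
    (hdim : topologicalKrullDim X = 2) (hreg : ∀ x : X, IsRegularLocalRing (X.presheaf.stalk x))
    {A B : X.IdealSheafData} (hA : BlowUp.IsEffCartierIdeal A) (hB : BlowUp.IsEffCartierIdeal B) (m : Pic X)
    (h : ∀ (C : X.IdealSheafData) (hC : IsCurve C), stalkIdeal A (gp hC) = stalkIdeal B (gp hC) ∨ degOn k X C m = 0) :
    dot k X (ic A hA) m = dot k X (ic B hB) m := by
  have hN : IsNoetherian X := Fga.IntAdd.isNoetherian k X
  obtain ⟨r, C, n, hC, hinj, -, hAB⟩ := K464.Comp.exists_eq_cyc k (X ↘ Spec (CommRingCat.of k)) hdim hreg (A * B)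
    (Divis.EffCartier.isEff_mul hA hB)
  have hE : ∀ i, BlowUp.IsEffCartierIdeal (C i) := fun i => isEff_of_isCurve k (X ↘ Spec (CommRingCat.of k)) hdim hreg (hC i)
  have hs : ((A * B).support : Set X) ⊆ ⋃ i, ((C i).support : Set X) := by
    rw [hAB]
    exact support_cyc_subset n
  have hsA : (A.support : Set X) ⊆ ⋃ i, ((C i).support : Set X) :=
    fun x hx => hs (Scheme.IdealSheafData.support_antitone (K464.DivLat.mul_le_left A B) hx)
  have hsB : (B.support : Set X) ⊆ ⋃ i, ((C i).support : Set X) :=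
    fun x hx => hs (Scheme.IdealSheafData.support_antitone (K464.DivLat.mul_le_right' A B) hx)
  obtain ⟨a, ha⟩ := exists_cyc hC hE hA hsA
  obtain ⟨b, hb⟩ := exists_cyc hC hE hB hsB
  rw [ic_congr hA (isEff_cyc hE a) ha, ic_congr hB (isEff_cyc hE b) hb, ic_cyc hE, ic_cyc hE,
    dot_prod_left k X hdim.le, dot_prod_left k X hdim.le]
  refine Finset.sum_congr rfl fun i _ => ?_
  rw [dot_pow_left k X hdim.le, dot_pow_left k X hdim.le, dot_ic_eq]
  rcases h (C i) (hC i) with h1 | h1
  · have h2 : a i = b i := by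
      rw [ha, hb, stalkIdeal_cyc (fun j hj => gp_notMem_of_ne hC hinj hj),
        stalkIdeal_cyc (fun j hj => gp_notMem_of_ne hC hinj hj)] at h1
      obtain ⟨g, hg, hgC⟩ := (isEffCartierIdeal_iff_stalkIdeal (C i)).mp (hE i) (gp (hC i))
      have hg1 : ¬ IsUnit g := by
        intro hu
        have := (mem_support_iff_stalkIdeal_ne_top (C i) _).mp (gp_mem (hC i))
        exact this (by rw [hgC]; exact Ideal.span_singleton_eq_top.mpr hu)
      rw [hgC] at h1
      exact le_antisymm (le_of_pow_le_pow hg hg1 h1.ge) (le_of_pow_le_pow hg hg1 h1.le)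
    rw [h2]
  · rw [h1]
    simp

end K457.NumDiff
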