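import Groth.Agent.Surf.K457.NumDiff
import Groth.Agent.Surf.K457.BirNormal
import Groth.Agent.Surf.K464.Comp
import Groth.Agent.Dix.BlowIrr

/-!
# Strict transforms over the isomorphism locus, and contracted curves
-/

set_option autoImplicit false
set_option linter.unusedSectionVars false
universe u
open CategoryTheory CategoryTheory.Limits AlgebraicGeometry TopologicalSpace

namespace K457.Strict

open Groth.Agent Groth.Agent.Grpsch.PicGrp Groth.Agent.Divis.CartierBasic Groth.Agent.Dix.IdealModCartier
  K464.Base K464.Curves K464.DivLat K464.DegCurve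

/-- A curve `P'` mapped onto the curve `P` is the inverse image of `P` over the isomorphism locus. -/
theorem stalkIdeal_strict {X Y : Scheme.{u}} (φ : Y ⟶ X) (U : X.Opens) [IsIso (φ ∣_ U)] {P : X.IdealSheafData}
    (hP : IsCurve P) {P' : Y.IdealSheafData} (hP' : IsCurve P')
    (himg : φ '' (P'.support : Set Y) = P.support) (y : Y) (hy : φ y ∈ U) :
    stalkIdeal P' y = stalkIdeal (P.comap φ) y := by
  have hPi := hP.integral
  have hP'i := hP'.integral
  have hle : P.comap φ ≤ P' := by
    rw [le_iff_gp_mem hP', Scheme.IdealSheafData.support_comap]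
    have : φ (gp hP') ∈ (P.support : Set X) := by
      rw [← himg]
      exact ⟨_, gp_mem hP', rfl⟩
    exact this
  refine le_antisymm ?_ (stalkIdeal_mono hle y)
  by_cases hyP : y ∈ (P.comap φ).support
  · -- the ideal is prime
    have hyP' : φ y ∈ P.support := by
      rw [Scheme.IdealSheafData.support_comap] at hyP
      exact hyP
    have hprime := Divis.StalkPrime.isPrime_stalkIdeal P hyP'
    have hiso := K457.BirNormal.isIso_stalkMap_of_restrict φ U y hy
    have hbij : Function.Bijective (φ.stalkMap y).hom := ConcreteCategory.bijective_of_isIso (φ.stalkMap y)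
    have hI : (stalkIdeal (P.comap φ) y).IsPrime := by
      rw [Divis.CartierStalk.stalkIdeal_comap]
      refine Ideal.map_isPrime_of_surjective hbij.2 ?_
      rw [(RingHom.injective_iff_ker_eq_bot _).mp hbij.1]
      exact bot_le
    let q : PrimeSpectrum (Y.presheaf.stalk y) := ⟨_, hI⟩
    have h1 : Y.fromSpecStalk y q ∈ (P.comap φ).support := (fromSpecStalk_mem_support_iff _ y q).mpr le_rfl
    have h2 : φ (Y.fromSpecStalk y q) ∈ (P.support : Set X) := by
      rw [Scheme.IdealSheafData.support_comap] at h1
      exact h1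
    have h3 : Y.fromSpecStalk y q ⤳ y := by
      have : Y.fromSpecStalk y q ∈ Set.range (Y.fromSpecStalk y) := ⟨q, rfl⟩
      rw [Scheme.range_fromSpecStalk] at this
      exact this
    have h4 : φ (Y.fromSpecStalk y q) ∈ U := (h3.map φ.continuous).mem_open U.isOpen hy
    rw [← himg] at h2
    obtain ⟨w, hw, hwq⟩ := h2
    have h5 := Vancyc.H175.DimBir.injOn_of_isIso φ U h4 hwq.symm
    have h6 : Y.fromSpecStalk y q ∈ P'.support := by
      rw [h5]
      exact hw
    exact (fromSpecStalk_mem_support_iff _ y q).mp h6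
  · rw [(notMem_support_iff_stalkIdeal_eq_top _ _).mp hyP]
    exact le_top

/-- A point of a surface is closed, generic or the generic point of a curve. -/
theorem exists_curve_gp {k : Type u} [Field k] {Y : Scheme.{u}} (f : Y ⟶ Spec (CommRingCat.of k))
    [LocallyOfFiniteType f] [IsIntegral Y] (hdim : topologicalKrullDim Y = 2) (y : Y)
    (hy : ¬ IsClosed ({y} : Set Y)) (hy' : y ≠ genericPoint Y) :
    ∃ (D : Y.IdealSheafData) (hD : IsCurve D), gp hD = y := by
  refine K464.Comp.exists_curve f hdim y ?_
  obtain ⟨z, hz, hzy⟩ : ∃ z, y ⤳ z ∧ z ≠ y := by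
    by_contra hcon
    push Not at hcon
    apply hy
    have : closure {y} = ({y} : Set Y) := by
      refine subset_antisymm (fun z hz => ?_) subset_closure
      exact hcon z (specializes_iff_mem_closure.mpr hz)
    rw [← this]
    exact isClosed_closure
  have h2 := ringKrullDim_stalk_le hdim.le z
  rw [ringKrullDim_stalk_eq_coheight] at h2
  have h2' : Order.coheight z ≤ 2 := (WithBot.coe_le_coe (a := Order.coheight z) (b := 2)).mp h2
  have h3 := Order.coheight_add_one_le (Dix.BlowIrr.lt_of_specializes hz hzy)
  have h4 := Order.coheight_add_one_le (Dix.BlowIrr.lt_of_specializes (genericPoint_specializes y) hy')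
  rw [ringKrullDim_stalk_eq_coheight]
  have h5 : Order.coheight y ≤ 1 := by
    have h6 : Order.coheight y + 1 ≤ 1 + 1 := (h3.trans h2').trans (by norm_num)
    exact (ENat.add_le_add_iff_right (by decide)).mp h6
  have h7 : 1 ≤ Order.coheight y := le_trans (by simp) h4
  have h8 : Order.coheight y = 1 := le_antisymm h5 h7
  rw [h8]
  rfl

section contr

variable (k : Type u) [Field k] {X Y Z : Scheme.{u}} [Y.Over (Spec (CommRingCat.of k))]
  [Z.Over (Spec (CommRingCat.of k))] [IsProper (Y ↘ Spec (CommRingCat.of k))]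
  [IsProper (Z ↘ Spec (CommRingCat.of k))] [IsIntegral Y]

/-- `deg_C (g^* m) = 0` for a curve `C` of `Z` whose image in `X` is a point off `U`, if `m` has degree zero on
all the curves of `Y` contracted by `φ`. -/
theorem degOn_contracted (φ : Y ⟶ X) (g : Z ⟶ Y)
    (hg : g ≫ (Y ↘ Spec (CommRingCat.of k)) = Z ↘ Spec (CommRingCat.of k)) (hdim : topologicalKrullDim Y = 2)
    {T : Set X} (hgT : φ (genericPoint Y) ∉ T) (m : Pic Y)
    (hm : ∀ (D : Y.IdealSheafData) (hD : IsCurve D), φ (gp hD) ∈ T → degOn k Y D m = 0)
    {C : Z.IdealSheafData} (hC : IsCurve C) (hCT : φ (g (gp hC)) ∈ T) : degOn k Z C (pull g m) = 0 := by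
  by_cases hcl : IsClosed ({g (gp hC)} : Set Y)
  · refine K457.Total.degOn_pull_eq_zero k g C (Set.finite_singleton (g (gp hC))) ?_ ?_ m
    · rintro x rfl
      exact hcl
    · intro c hc
      have h1 : gp hC ⤳ c := by
        rw [specializes_iff_mem_closure, closure_gp hC]
        exact hc
      have h2 := specializes_iff_mem_closure.mp (h1.map g.continuous)
      rw [hcl.closure_eq] at h2
      exact h2
  · obtain ⟨D, hD, hDy⟩ := exists_curve_gp (Y ↘ Spec (CommRingCat.of k)) hdim (g (gp hC)) hcl
      (fun h => hgT (h ▸ hCT))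
    obtain ⟨d, hd⟩ := K457.NumDiff.degOn_pull k g hg hC hD hDy.symm m
    rw [hd, hm D hD (by rw [hDy]; exact hCT), mul_zero]

end contr

end K457.Strict
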